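import Groth.Agent.AmpleLib.Local
import Groth.Agent.AmpleLib.Sections

/-! Affine loci of sections spread from the locus of a function. -/

set_option autoImplicit false
set_option backward.isDefEq.respectTransparency.types false
set_option maxHeartbeats 1000000

universe u

open CategoryTheory CategoryTheory.Limits AlgebraicGeometry TopologicalSpace Opposite
open Groth.Agent.Coherent Groth.Agent.PicLib Groth.Agent.AmpleLib

namespace Groth.Agent.ExcC13

variable {X : Scheme.{u}} {L : X.Modules}

theorem affGlocus_of_basicOpen [CompactSpace X] [QuasiSeparatedSpace X] (hL : PicF.IsInvertible L)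
    (r : Γ(X, ⊤)) {x : X} (hxi : x ∈ X.basicOpen r)
    (h : CohB1.IsAmple ((Scheme.Modules.pullback (X.basicOpen r).ι).obj L)) : AffGlocus L x ⊤ := by
  let D := X.basicOpen r
  obtain ⟨m, hm, b, hxb, -, hba⟩ := (isAmple_iff_affGlocus.1 h).2.2 ⟨x, hxi⟩
  have hP := isInvertible_tensorPow hL m
  obtain ⟨e, he⟩ := exists_pullPowIso D.ι hL m
  let b' : Γ((Scheme.Modules.pullback D.ι).obj (CohB1.tensorPow L m), ⊤) := e.inv.app ⊤ b
  have hb' : glocus _ b' = glocus _ b := glocus_map_iso e.symm b
  let s : Γ(Coh.structureModule X, ⊤) := r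
  have hs : glocus (Coh.structureModule X) s = D := glocus_structureModule r
  obtain ⟨c, hc⟩ : ∃ c : Γ(CohB1.tensorPow L m, glocus (Coh.structureModule X) s),
      resM _ (show (⊤ : D.toScheme.Opens) ≤ D.ι ⁻¹ᵁ glocus (Coh.structureModule X) s from
        fun z _ => hs.ge z.2) (pullSec D.ι c) = b' := by
    obtain ⟨c, hc⟩ := (bijective_pullSec_opensRange D.ι hP _ (hs.le.trans (Scheme.Opens.opensRange_ι D).ge)).2
      (resM _ (le_top : D.ι ⁻¹ᵁ glocus (Coh.structureModule X) s ≤ ⊤) b')
    exact ⟨c, by rw [hc, resM_resM, resM_self]⟩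
  have := isQCoh_of_isInvertible hP
  obtain ⟨n, t, ht⟩ := exists_extend (CohB1.tensorPow L m) s isInvertible_structureModule c
  have hO := isInvertible_tensorPow (isInvertible_structureModule (X := X)) n
  let d := r • t
  have hd : glocus _ d = D.ι ''ᵁ glocus _ b' := by
    rw [glocus_smul_eq (isInvertible_tensorMod hP hO)]
    -- compare inside `D`
    refine Opens.ext (Set.ext fun z => ?_)
    constructor
    · rintro ⟨hz, hzD⟩
      refine ⟨⟨z, hzD⟩, ?_, rfl⟩
      obtain ⟨W, hzW, g, hg⟩ := exists_isGen hP z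
      let T := W ⊓ glocus (Coh.structureModule X) s
      have hzT : z ∈ T := ⟨hzW, hs.ge hzD⟩
      have hgT := hg.restrict (inf_le_left : T ≤ W)
      have h2 := isGen_tmul hgT (isGen_powSec ((isGen_glocus s).restrict (inf_le_right : T ≤ _)) n)
      have h3 : resM _ (le_top : T ≤ ⊤) t = hgT.coef le_rfl (resM _ inf_le_right c) •
          tmul (resM _ inf_le_left g) (powSec (resM _ inf_le_right (resM _ le_top s)) n) := by
        rw [← resM_resM _ (le_top : glocus (Coh.structureModule X) s ≤ ⊤) (inf_le_right : T ≤ _), ht,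
          resM_tmul, resM_powSec, ← tmul_smul_left]
        have := hgT.coef_spec le_rfl (resM _ inf_le_right c)
        rw [resM_self] at this
        rw [this]
      have h4 := glocus_inf t h2
      have h5 : h2.coef le_rfl (resM _ (le_top : T ≤ ⊤) t) = hgT.coef le_rfl (resM _ inf_le_right c) :=
        h2.coef_eq _ (by rw [resM_self]; exact h3.symm)
      have hu : z ∈ X.basicOpen (hgT.coef le_rfl (resM _ (inf_le_right : T ≤ _) c)) := h5 ▸ h4.le ⟨hz, hzT⟩
      -- pull the coordinate back to `D`
      have hg' := isGen_pullSec D.ι hgT hP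
      have h6 := glocus_inf b' hg'
      have h7 : hg'.coef le_rfl (resM _ (le_top : D.ι ⁻¹ᵁ T ≤ ⊤) b') =
          D.ι.app T (hgT.coef le_rfl (resM _ (inf_le_right : T ≤ _) c)) := by
        refine hg'.coef_eq _ ?_
        rw [resM_self, ← pullSec_smul]
        have := hgT.coef_spec le_rfl (resM _ inf_le_right c)
        rw [resM_self] at this
        rw [this, ← resM_pullSec D.ι (inf_le_right : T ≤ glocus (Coh.structureModule X) s) c, ← hc, resM_resM]
      rw [h7, ← Scheme.preimage_basicOpen] at h6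
      exact (h6.ge (show (⟨z, hzD⟩ : D.toScheme) ∈ D.ι ⁻¹ᵁ X.basicOpen _ from hu)).1
    · rintro ⟨w, hw, rfl⟩
      refine ⟨?_, w.2⟩
      obtain ⟨W, hzW, g, hg⟩ := exists_isGen hP (D.ι w)
      let T := W ⊓ glocus (Coh.structureModule X) s
      have hzT : D.ι w ∈ T := ⟨hzW, hs.ge w.2⟩
      have hgT := hg.restrict (inf_le_left : T ≤ W)
      have hg' := isGen_pullSec D.ι hgT hP
      have h6 := glocus_inf b' hg'
      have h7 : hg'.coef le_rfl (resM _ (le_top : D.ι ⁻¹ᵁ T ≤ ⊤) b') =
          D.ι.app T (hgT.coef le_rfl (resM _ (inf_le_right : T ≤ _) c)) := by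
        refine hg'.coef_eq _ ?_
        rw [resM_self, ← pullSec_smul]
        have := hgT.coef_spec le_rfl (resM _ inf_le_right c)
        rw [resM_self] at this
        rw [this, ← resM_pullSec D.ι (inf_le_right : T ≤ glocus (Coh.structureModule X) s) c, ← hc, resM_resM]
      rw [h7, ← Scheme.preimage_basicOpen] at h6
      have hu : D.ι w ∈ X.basicOpen (hgT.coef le_rfl (resM _ (inf_le_right : T ≤ _) c)) := h6.le ⟨hw, hzT⟩
      have h2 := isGen_tmul hgT (isGen_powSec ((isGen_glocus s).restrict (inf_le_right : T ≤ _)) n)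
      have h5 : h2.coef le_rfl (resM _ (le_top : T ≤ ⊤) t) = hgT.coef le_rfl (resM _ inf_le_right c) := by
        refine h2.coef_eq _ ?_
        rw [resM_self, ← resM_resM _ (le_top : glocus (Coh.structureModule X) s ≤ ⊤) (inf_le_right : T ≤ _), ht,
          resM_tmul, resM_powSec, ← tmul_smul_left]
        have := hgT.coef_spec le_rfl (resM _ inf_le_right c)
        rw [resM_self] at this
        rw [this]
      exact ((glocus_inf t h2).ge (h5.symm ▸ hu)).1
  obtain ⟨e₀⟩ := exists_structurePowIso (X := X) n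
  let e' : CohB1.tensorMod (CohB1.tensorPow L m) (CohB1.tensorPow (Coh.structureModule X) n) ≅ CohB1.tensorPow L m :=
    tensorIso (Iso.refl _) e₀ ≪≫ tensorComm _ _ ≪≫ unitTensorIso _
  refine ⟨m, hm, e'.hom.app ⊤ d, ?_, le_top, ?_⟩
  · rw [glocus_map_iso, hd]
    exact ⟨⟨x, hxi⟩, hb'.ge hxb, rfl⟩
  · rw [glocus_map_iso, hd, hb']
    exact hba.image_of_isOpenImmersion _

end Groth.Agent.ExcC13
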