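import Groth.Agent.ExcC13.Criterion
import Groth.Agent.Coherent.SteinFibre
import Groth.Agent.EGA43.ConnCount.Disjoint
import Groth.Agent.Models7.SteinContract
import Groth.Prelude.Def_ClSub2

/-! The contraction as the first factor of the Stein factorisation. -/

set_option autoImplicit false
set_option linter.style.haveILetI false
set_option backward.isDefEq.respectTransparency.types false

universe u

open CategoryTheory CategoryTheory.Limits AlgebraicGeometry TopologicalSpace IsLocalRing

namespace Groth.Agent.ExcC13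

/-- `O = b_* O` from bijectivity on sections. -/
theorem isIso_unitToPush_of_app {X Y : Scheme.{u}} (b : X ⟶ Y) (happ : ∀ U : Y.Opens, IsIso (b.app U)) :
    IsIso (ClSub.unitToPush b) := by
  refine Scheme.Modules.Hom.isIso_iff_isIso_app.2 fun U => ?_
  rw [ConcreteCategory.isIso_iff_bijective]
  haveI := happ U
  exact ConcreteCategory.bijective_of_isIso (b.app U)

set_option maxHeartbeats 1000000 in
theorem exists_contraction_stein {E X Y : Scheme.{u}} [AlgebraicGeometry.IsNoetherian X] [AlgebraicGeometry.IsNoetherian Y]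
    (ι : E ⟶ X) [IsClosedImmersion ι] (hE : Models.IsExcCurve ι) (f : X ⟶ Y) [IsProper f]
    (y : Y) (hy : Set.range ((ι ≫ f).base : E → Y) = {y})
    (hqf : LocallyQuasiFinite (Scheme.Opens.ι (X := X) ι.ker.support.compl ≫ f)) :
    ∃ (X' : Scheme.{u}) (b : X ⟶ X') (g : X' ⟶ Y), Models.IsContractionOf ι b ∧ b ≫ g = f ∧ IsFinite g ∧
      IsIso (ClSub.unitToPush b) := by
  let b := f.toNormalization
  let g := f.fromNormalization
  have hbg : b ≫ g = f := f.toNormalization_fromNormalization
  haveI hg : IsFinite g := Coherent.isFinite_fromNormalization_of_isProper f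
  haveI : IsLocallyNoetherian f.normalization := Coherent.isLocallyNoetherian_normalization f
  haveI : CompactSpace f.normalization := QuasiCompact.compactSpace_of_compactSpace g
  haveI : AlgebraicGeometry.IsNoetherian f.normalization := {}
  haveI : IsProper b := Coherent.isProper_toNormalization f
  have happ := Coherent.isIso_toNormalization_app f
  haveI : IsIntegral E := Models7.isIntegral_of_isExcCurve hE
  let U : X.Opens := ι.ker.support.compl
  have hU : ∀ x, x ∈ U ↔ x ∉ Set.range ι.base := fun x => by
    have h : (ι.ker.support : Set X) = Set.range ι.base := by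
      rw [Scheme.Hom.support_ker]; exact ι.isClosedEmbedding.isClosed_range.closure_eq
    exact not_congr (Set.ext_iff.1 h x)
  haveI hqfb : LocallyQuasiFinite (U.ι ≫ b) := by
    haveI : LocallyQuasiFinite ((U.ι ≫ b) ≫ g) := by rw [Category.assoc, hbg]; exact hqf
    exact LocallyQuasiFinite.of_comp (U.ι ≫ b) g
  let y' := b (ι (genericPoint E))
  have himg : ∀ a, b (ι a) = y' := fun a => by
    have hfy : ∀ a, g (b (ι a)) = y := fun a => by
      have : f (ι a) = y := hy.le ⟨a, rfl⟩
      rw [← hbg] at this
      exact this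
    exact (EGA43.ConnCount.eq_of_specializes_fibre g (((genericPoint_specializes a).map ι.continuous).map b.continuous)
      ((hfy _).trans (hfy a).symm)).symm
  have hrange : Set.range ((ι ≫ b).base : E → f.normalization) = {y'} :=
    Set.Subset.antisymm (by rintro _ ⟨a, rfl⟩; exact himg a) (by rintro _ rfl; exact ⟨genericPoint E, rfl⟩)
  have hy' : IsClosed ({y'} : Set f.normalization) := hrange ▸ (ι ≫ b).isClosedMap.isClosed_range
  -- no proper specialisations in the fibres off the curve
  have hdisc : ∀ z z' : X, z ∈ U → z' ∈ U → z ⤳ z' → b z = b z' → z = z' := fun z z' hz hz' hs he => by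
    have h1 : (⟨z, hz⟩ : U) ⤳ ⟨z', hz'⟩ := Topology.IsInducing.subtypeVal.specializes_iff.1 hs
    exact congrArg Subtype.val (EGA43.ConnCount.eq_of_specializes_fibre (U.ι ≫ b) h1 he)
  have hconn : ∀ w, _root_.IsPreconnected (b ⁻¹' {w} : Set X) := Coherent.isPreconnected_preimage_toNormalization f
  -- a point off the curve is alone in its fibre
  have halone : ∀ z ∈ U, ∀ z', b z' = b z → z' = z := by
    intro z hz z' hz'
    let F : Scheme.{u} := b.fiber (b z)
    haveI : LocallyOfFiniteType (b.fiberToSpecResidueField (b z)) :=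
      (inferInstance : LocallyOfFiniteType (Limits.pullback.snd b ((f.normalization).fromSpecResidueField (b z))))
    haveI : JacobsonSpace F := LocallyOfFiniteType.jacobsonSpace (b.fiberToSpecResidueField (b z))
    haveI : AlgebraicGeometry.IsNoetherian F := by
      haveI : IsLocallyNoetherian F := LocallyOfFiniteType.isLocallyNoetherian (b.fiberToSpecResidueField (b z))
      haveI : CompactSpace F := QuasiCompact.compactSpace_of_compactSpace (b.fiberToSpecResidueField (b z))
      exact {}
    let ι' := b.fiberι (b z)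
    have hmem : ∀ t : F, b (ι' t) = b z := fun t => (b.range_fiberι (b z)).le ⟨t, rfl⟩
    obtain ⟨t₀, ht₀⟩ : ∃ t₀, ι' t₀ = z := (b.range_fiberι (b z)).ge rfl
    obtain ⟨t₁, ht₁⟩ : ∃ t₁, ι' t₁ = z' := (b.range_fiberι (b z)).ge hz'
    let O : Set F := ι'.base ⁻¹' (U : Set X)
    have hO : IsOpen O := U.2.preimage ι'.continuous
    haveI : JacobsonSpace F := inferInstance
    -- the points of the fibre off the curve are isolated
    have hO1 : ∀ a ∈ O, ∀ c ∈ O, a ⤳ c → a = c := fun a ha c hc hac =>
      ι'.isEmbedding.injective (hdisc _ _ ha hc (hac.map ι'.continuous) ((hmem a).trans (hmem c).symm))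
    have hclosed : IsClosed ({t₀} : Set F) := by
      have ht₀O : t₀ ∈ O := show ι' t₀ ∈ U from ht₀.symm ▸ hz
      obtain ⟨c, hc, hcc⟩ := nonempty_inter_closedPoints (Z := closure {t₀} ∩ O) ⟨t₀, subset_closure rfl, ht₀O⟩
        (isClosed_closure.isLocallyClosed.inter hO.isLocallyClosed)
      rw [hO1 t₀ ht₀O c hc.2 (specializes_iff_mem_closure.2 hc.1)]
      exact hcc
    have hopen : IsOpen ({t₀} : Set F) := by
      have hfinO : O.Finite := by
        haveI : Finite ↥((U.ι ≫ b).fiber (b z)) := inferInstance
        have h1 : ((U.ι ≫ b).base ⁻¹' {b z}).Finite :=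
          Set.finite_coe_iff.1 (Finite.of_equiv _ ((U.ι ≫ b).fiberHomeo (b z)).toEquiv)
        refine Set.Finite.of_finite_image ((h1.image (fun u : U.toScheme => U.ι u)).subset ?_) ι'.isEmbedding.injective.injOn
        rintro _ ⟨a, ha, rfl⟩
        exact ⟨⟨ι' a, ha⟩, hmem a, rfl⟩
      have h2 : IsClosed (O \ {t₀} ∪ Oᶜ) := by
        have h3 : ∀ a ∈ O, IsClosed ({a} : Set F) := fun a ha => by
          obtain ⟨c, hc, hcc⟩ := nonempty_inter_closedPoints (Z := closure {a} ∩ O) ⟨a, subset_closure rfl, ha⟩
            (isClosed_closure.isLocallyClosed.inter hO.isLocallyClosed)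
          rw [hO1 a ha c hc.2 (specializes_iff_mem_closure.2 hc.1)]
          exact hcc
        refine IsClosed.union ?_ hO.isClosed_compl
        rw [← Set.biUnion_of_singleton (O \ {t₀})]
        exact (hfinO.sdiff).isClosed_biUnion fun a ha => h3 a ha.1
      have h4 : ({t₀} : Set F) = (O \ {t₀} ∪ Oᶜ)ᶜ := by
        ext a
        have ht₀O : t₀ ∈ O := show ι' t₀ ∈ U from ht₀.symm ▸ hz
        by_cases hat : a = t₀
        · subst hat; simp [ht₀O]
        · by_cases haO : a ∈ O <;> simp [hat, haO]
      rw [h4]; exact h2.isOpen_compl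
    haveI : PreconnectedSpace F := by
      haveI := isPreconnected_iff_preconnectedSpace.1 (hconn (b z))
      exact (Function.Surjective.denseRange (b.fiberHomeo (b z)).symm.surjective).preconnectedSpace (b.fiberHomeo (b z)).symm.continuous
    have := (isClopen_iff.1 ⟨hclosed, hopen⟩).resolve_left (Set.singleton_nonempty t₀).ne_empty
    rw [← ht₀, ← ht₁]
    exact congrArg ι' ((Set.eq_univ_iff_forall.1 this t₁))
  have hpre : b.base ⁻¹' {y'} = Set.range ι.base := by
    refine Set.Subset.antisymm (fun x hx => ?_) (by rintro _ ⟨a, rfl⟩; exact himg a)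
    by_contra hxE
    have := halone x ((hU x).2 hxE) (ι (genericPoint E)) ((himg _).trans (Set.mem_singleton_iff.1 hx).symm)
    exact hxE ⟨_, this⟩
  have hiso : IsIso (b ∣_ (⟨{y'}ᶜ, hy'.isOpen_compl⟩ : f.normalization.Opens)) := by
    refine Models7.isIso_morphismRestrict_of_finite_fibres b happ _ fun w hw => ?_
    refine Set.Subsingleton.finite fun p hp q hq => ?_
    have hpU : p ∈ U := (hU p).2 fun ⟨a, ha⟩ => hw (by
      rw [← Set.mem_singleton_iff.1 hp, ← ha]; exact himg a)
    exact (halone p hpU q ((Set.mem_singleton_iff.1 hq).trans (Set.mem_singleton_iff.1 hp).symm)).symm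
  exact ⟨_, b, g, isContractionOf_of_iso_off ι hE b happ y' hy' hrange hpre hiso, hbg, hg, isIso_unitToPush_of_app b happ⟩

end Groth.Agent.ExcC13
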