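import Groth.Agent.ExcC13.Bundle
import Groth.Agent.ExcC13.SteinContract
import Groth.Agent.Models7.ContractP1
import Groth.Agent.WeilProj8.Data
import Groth.Agent.S7325

/-! Contraction of an exceptional curve on a projective scheme over a Noetherian affine base. -/

set_option autoImplicit false
set_option linter.style.haveILetI false
set_option backward.isDefEq.respectTransparency.types false
set_option maxHeartbeats 2000000

universe u

open CategoryTheory CategoryTheory.Limits AlgebraicGeometry TopologicalSpace Opposite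
open Groth.Agent.Coherent Groth.Agent.PicLib Groth.Agent.AmpleLib Groth.Agent.EulerLib Groth.Agent.Models7

namespace Groth.Agent.ExcC13

theorem nonempty_powCongr {X : Scheme.{u}} {L L' : X.Modules} (e : L ≅ L') :
    ∀ n : ℕ, Nonempty (CohB1.tensorPow L n ≅ CohB1.tensorPow L' n)
  | 0 => ⟨Iso.refl _⟩
  | n + 1 => by
    obtain ⟨a⟩ := nonempty_powCongr e n
    exact ⟨Coherent.tensorIso a e⟩

theorem exists_contraction_ample (R : Type u) [CommRing R] [IsNoetherianRing R] {E X : Scheme.{u}}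
    (f : X ⟶ Spec (CommRingCat.of R)) [IsProper f] (H : X.Modules) (hH : CohB1.IsAmple H)
    (ι : E ⟶ X) [IsClosedImmersion ι] (hE : Models.IsExcCurve ι)
    (M : X.Modules) (hM : ClSub.IsInverseOf M (ClSub.idealMod ι.ker)) :
    ∃ (X' : Scheme.{u}) (b : X ⟶ X') (g : X' ⟶ Spec (CommRingCat.of R)), Models.IsContractionOf ι b ∧ b ≫ g = f ∧
      IsProper g ∧ ∃ (n : ℕ) (L' : X'.Modules), CohB1.IsAmple L' ∧
        Nonempty ((Scheme.Modules.pullback b).obj L' ≅ CohB1.tensorMod H (CohB1.tensorPow M n)) := by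
  classical
  haveI : IsLocallyNoetherian X := LocallyOfFiniteType.isLocallyNoetherian f
  haveI : CompactSpace X := QuasiCompact.compactSpace_of_compactSpace f
  haveI : AlgebraicGeometry.IsNoetherian X := {}
  obtain ⟨hD, k, _, e₀, φ₀⟩ := id hE
  let J := ι.ker
  haveI : IsIso ι.toImage := inferInstance
  let σ₀ : E ≅ J.subscheme := asIso ι.toImage
  let e : CohB1.ProjSpace 1 k ≅ J.subscheme := e₀ ≪≫ σ₀
  have hσι : σ₀.hom ≫ J.subschemeι = ι := ι.toImage_imageι
  have hdeg : P1Deg.HasDeg e ((Scheme.Modules.pullback J.subschemeι).obj (ClSub.idealMod J)) (1 : ℤ) :=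
    ⟨(Scheme.Modules.pullbackComp e.hom J.subschemeι).app _ ≪≫
      (Scheme.Modules.pullbackCongr (show e.hom ≫ J.subschemeι = e₀.hom ≫ ι by
        show (e₀.hom ≫ σ₀.hom) ≫ _ = _
        rw [Category.assoc, hσι])).app _ ≪≫ φ₀.some⟩
  obtain ⟨m, n, hm, hn1, L, hL, ⟨hpow⟩, hLd, hgl, hoff⟩ := exists_degZero J f hH e hD hdeg M hM
  -- the map to projective space
  let good : X → Γ(L, ⊤) := fun x => if hx : x ∈ (J.support : Set X) then (hgl x).choose else (hoff x hx).choose
  have hgood : ∀ x, x ∈ glocus L (good x) := fun x => by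
    by_cases hx : x ∈ (J.support : Set X)
    · simp only [good, dif_pos hx]; exact (hgl x).choose_spec
    · simp only [good, dif_neg hx]; exact (hoff x hx).choose_spec.1
  let Uc : X.Opens := ⟨(J.support : Set X)ᶜ, J.support.isClosed.isOpen_compl⟩
  obtain ⟨t₁, ht₁⟩ := isCompact_univ.elim_finite_subcover (fun x : X => (glocus L (good x) : Set X))
    (fun x => (glocus L (good x)).2) fun x _ => Set.mem_iUnion.2 ⟨x, hgood x⟩
  obtain ⟨t₂, ht₂⟩ := (NoetherianSpace.isCompact (Uc : Set X)).elim_finite_subcover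
    (fun x : Uc => (glocus L (good x.1) : Set X)) (fun x => (glocus L (good x.1)).2)
    fun x hx => Set.mem_iUnion.2 ⟨⟨x, hx⟩, hgood x⟩
  let S : Finset Γ(L, ⊤) := t₁.image good ∪ t₂.image fun x => good x.1
  let σ : Fin (S.card + 1) → Γ(L, ⊤) := Fin.cons 0 fun i => (S.equivFin.symm i).1
  have hσS : ∀ s ∈ S, ∃ i, σ i = s := fun s hs => ⟨(S.equivFin ⟨s, hs⟩).succ, by simp [σ]⟩
  have hcov : ∀ x : X, ∃ i, x ∈ glocus L (σ i) := fun x => by
    obtain ⟨z, hz, hxz⟩ := Set.mem_iUnion₂.1 (ht₁ (Set.mem_univ x))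
    obtain ⟨i, hi⟩ := hσS _ (Finset.mem_union_left _ (Finset.mem_image_of_mem good hz))
    exact ⟨i, hi ▸ hxz⟩
  have hcov' : ∀ x ∉ (J.support : Set X), ∃ i, x ∈ glocus L (σ i) ∧ IsAffineOpen (glocus L (σ i)) ∧
      Disjoint (glocus L (σ i) : Set X) (J.support : Set X) := fun x hx => by
    obtain ⟨z, hz, hxz⟩ := Set.mem_iUnion₂.1 (ht₂ hx)
    obtain ⟨i, hi⟩ := hσS _ (Finset.mem_union_right _ (Finset.mem_image_of_mem (fun x : Uc => good x.1) hz))
    have hzS : z.1 ∉ (J.support : Set X) := z.2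
    refine ⟨i, hi ▸ hxz, ?_⟩
    rw [hi]
    simp only [good, dif_neg hzS]
    exact (hoff z.1 hzS).choose_spec.2
  obtain ⟨φ, hφ, τ, hτ⟩ := UPLib.exists_hom_projSpace S.card f hL σ hcov
  let N := S.card
  have hσ : ∀ i, φ ⁻¹ᵁ PnEmb.chartOpen N R i = glocus L (σ i) := fun i => PnEmb.preimage_chartOpen φ τ hτ i
  haveI : IsProper (CohB1.ProjSpace.toSpec N R) := Coherent.isProper_projSpace_toSpec N R
  haveI : IsLocallyNoetherian (CohB1.ProjSpace N R) :=
    LocallyOfFiniteType.isLocallyNoetherian (CohB1.ProjSpace.toSpec N R)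
  haveI : CompactSpace (CohB1.ProjSpace N R) := QuasiCompact.compactSpace_of_compactSpace (CohB1.ProjSpace.toSpec N R)
  haveI : AlgebraicGeometry.IsNoetherian (CohB1.ProjSpace N R) := {}
  haveI : IsProper (φ ≫ CohB1.ProjSpace.toSpec N R) := by rw [hφ]; infer_instance
  haveI : IsProper φ := IsProper.of_comp φ (CohB1.ProjSpace.toSpec N R)
  haveI : IsIntegral J.subscheme := IsIntegral.of_isIso e.hom
  haveI : IsIntegral E := Models7.isIntegral_of_isExcCurve hE
  have htriv : ∀ {L₀ : X.Modules}, P1Deg.HasDeg e ((Scheme.Modules.pullback J.subschemeι).obj L₀) 0 →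
      Nonempty ((Scheme.Modules.pullback J.subschemeι).obj L₀ ≅ Coh.structureModule J.subscheme) := fun h0 => by
    obtain ⟨ψ⟩ := SplitP1.nonempty_twist_zero k
    obtain ⟨θ⟩ := h0.iso_pullback e
    obtain ⟨θ₀⟩ := exists_pullStructureIso (X := CohB1.ProjSpace 1 k) e.inv
    exact ⟨θ.symm ≪≫ (Scheme.Modules.pullback e.inv).mapIso ψ ≪≫ θ₀⟩
  obtain ⟨τ₀⟩ := htriv hLd
  have h1 : (φ.base '' Set.range J.subschemeι.base).Subsingleton :=
    subsingleton_range_of_trivial φ hL σ hcov hσ J.subschemeι (P1Deg.isField_sections e) τ₀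
  have hJι : Set.range J.subschemeι.base = Set.range ι.base := by
    rw [J.range_subschemeι, Scheme.Hom.support_ker]
    exact ι.isClosedEmbedding.isClosed_range.closure_eq
  let y := φ (ι (genericPoint E))
  have hy : Set.range ((ι ≫ φ).base : E → CohB1.ProjSpace N R) = {y} :=
    Set.Subset.antisymm (by
      rintro _ ⟨a, rfl⟩
      exact h1 ⟨_, hJι.ge ⟨a, rfl⟩, rfl⟩ ⟨_, hJι.ge ⟨genericPoint E, rfl⟩, rfl⟩)
      (by rintro _ rfl; exact ⟨genericPoint E, rfl⟩)
  let U : X.Opens := ι.ker.support.compl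
  have hqf : LocallyQuasiFinite (U.ι ≫ φ) := by
    refine LocallyQuasiFinite.of_finite_preimage_singleton _ fun w => ?_
    by_cases hw : ∃ x : U.toScheme, (U.ι ≫ φ) x = w
    · obtain ⟨x, rfl⟩ := hw
      obtain ⟨i, hxi, haff, -⟩ := hcov' x.1 x.2
      have hxw : φ x.1 ∈ PnEmb.chartOpen N R i := by
        have : x.1 ∈ φ ⁻¹ᵁ PnEmb.chartOpen N R i := (hσ i).symm ▸ hxi
        exact this
      have hf := (finite_preimage_of_isAffineOpen φ i ((hσ i).symm ▸ haff) hxw).preimage
        (f := fun u : U.toScheme => U.ι u) U.ι.isOpenEmbedding.injective.injOn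
      exact hf.subset fun u hu => hu
    · exact Set.Finite.subset Set.finite_empty fun x hx => (hw ⟨x, hx⟩).elim
  obtain ⟨X', b, g, hb, hbg, hg, -⟩ := exists_contraction_stein ι hE φ y hy hqf
  haveI := hg
  haveI : AlgebraicGeometry.IsNoetherian X' := hb.1
  haveI : IsProper (g ≫ CohB1.ProjSpace.toSpec N R) := inferInstance
  -- the descended module
  have hHn : PicF.IsInvertible (CohB1.tensorMod H (CohB1.tensorPow M n)) :=
    isInvertible_tensorMod hH.1 (isInvertible_tensorPow (by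
      obtain ⟨tI⟩ := hM
      exact PicM.isInvertible_of_tensor (FlatMor12.IdealModGen.isInvertible_idealMod J hD)
        (glocus_isInvertible_of_iso (tensorComm _ _ ≪≫ tI).symm isInvertible_structureModule)) n)
  obtain ⟨hinj, hdesc⟩ := S7325.result ι hE b hb
  obtain ⟨L', hL', ⟨α⟩⟩ := (hdesc _ hHn).2 (by
    obtain ⟨τ₁⟩ := htriv hn1
    obtain ⟨θ₁⟩ := exists_pullStructureIso (X := J.subscheme) σ₀.hom
    exact ⟨(Scheme.Modules.pullbackCongr hσι.symm).app _ ≪≫ ((Scheme.Modules.pullbackComp σ₀.hom J.subschemeι).app _).symm ≪≫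
      (Scheme.Modules.pullback σ₀.hom).mapIso τ₁ ≪≫ θ₁⟩)
  refine ⟨X', b, g ≫ CohB1.ProjSpace.toSpec N R, hb, by rw [← Category.assoc, hbg, hφ], inferInstance, n, L', ?_, ⟨α⟩⟩
  refine (isAmple_pow_iff hL' m hm).1 ?_
  let O1 := Twist.twistProjSpace N R 1
  have hO : CohB1.IsAmple O1 := WeilProj8.isAmple_twist_projSpace N R
  have hga : CohB1.IsAmple ((Scheme.Modules.pullback g).obj O1) := isAmple_pullback_of_isAffineHom g hO
  obtain ⟨a, -⟩ := exists_pullPowIso b hL' m
  obtain ⟨c⟩ := nonempty_powCongr α m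
  obtain ⟨γ⟩ := hinj _ _ (isInvertible_tensorPow hL' m) hga.1
    ⟨a ≪≫ c ≪≫ hpow.symm ≪≫ τ.symm ≪≫ (Scheme.Modules.pullbackCongr hbg.symm).app O1 ≪≫
      ((Scheme.Modules.pullbackComp b g).app O1).symm⟩
  exact isAmple_of_iso γ.symm hga

end Groth.Agent.ExcC13
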