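import Groth.Prelude.Def_ModelsG
import Groth.Agent.EGA43.ProperDvr.Closed
import Groth.Agent.Coherent.CohBC.PushStructureIso
import Groth.Agent.Coherent.ProjSpaceCoh
import Groth.Agent.CommAlg6.ClosedPoints
import Groth.Agent.CurveLib.ProjLine
import Groth.Agent.Models7.ExcTransfer

/-! An exceptional curve in a fibre is proper over an affine neighbourhood of its image. -/

set_option autoImplicit false
set_option linter.style.haveILetI false
set_option backward.isDefEq.respectTransparency.types false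
set_option maxHeartbeats 1000000

universe u

open CategoryTheory CategoryTheory.Limits AlgebraicGeometry TopologicalSpace Opposite

namespace Groth.Agent.ExcC13

/-- A projective line of finite type over an affine scheme collapsing to a closed point is proper. -/
theorem isProper_projLine_of_point (k : Type u) [Field k] {D : Scheme.{u}} [IsAffine D]
    (g : CohB1.ProjSpace 1 k ⟶ D) [LocallyOfFiniteType g] (s : D) (hs : IsClosed ({s} : Set D))
    (hg : ∀ x, g x = s) : IsProper g := by
  haveI := CurveLib.isIntegral_projSpace k 1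
  haveI : IsProper (CohB1.ProjSpace.toSpec 1 k) := Coherent.isProper_projSpace_toSpec 1 k
  haveI : CompactSpace (CohB1.ProjSpace 1 k) := QuasiCompact.compactSpace_of_compactSpace (CohB1.ProjSpace.toSpec 1 k)
  haveI : Nonempty (CohB1.ProjSpace 1 k) := inferInstance
  obtain ⟨x, -, hx⟩ := IsClosed.exists_closed_singleton (S := (Set.univ : Set (CohB1.ProjSpace 1 k))) isClosed_univ
    Set.univ_nonempty
  obtain ⟨l, hl⟩ := EGA43.ProperDvr.exists_lift_closed g ⟨{s}, hs⟩ (by rintro _ ⟨a, rfl⟩; exact hg a)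
  let Q := (Scheme.IdealSheafData.vanishingIdeal ⟨{s}, hs⟩).subscheme
  let c : Q ⟶ D := (Scheme.IdealSheafData.vanishingIdeal ⟨{s}, hs⟩).subschemeι
  haveI : IsAffine Q := isAffine_of_isAffineHom c
  haveI : Subsingleton Q := ⟨fun a b => c.isClosedEmbedding.injective (by
    have h : ∀ a : Q, c a = s := fun a => by
      have : c a ∈ Set.range c := ⟨a, rfl⟩
      rwa [Scheme.IdealSheafData.range_subschemeι, Scheme.IdealSheafData.coe_support_vanishingIdeal] at this
    rw [h a, h b])⟩
  haveI : LocallyOfFiniteType (l ≫ c) := hl.symm ▸ inferInstance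
  haveI : LocallyOfFiniteType l := locallyOfFiniteType_of_comp l c
  haveI : JacobsonSpace Q := inferInstance
  haveI := Coherent.isIso_appTop_toSpec 1 k
  let h : Spec (CommRingCat.of k) ⟶ Q := (Spec (CommRingCat.of k)).toSpecΓ ≫
    Spec.map (l.appTop ≫ inv (CohB1.ProjSpace.toSpec 1 k).appTop) ≫ Q.isoSpec.inv
  have hh : CohB1.ProjSpace.toSpec 1 k ≫ h = l := by
    dsimp only [h]
    rw [Scheme.toSpecΓ_naturality_assoc, ← Spec.map_comp_assoc, Category.assoc, IsIso.inv_hom_id,
      Category.comp_id, ← Scheme.toSpecΓ_naturality_assoc]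
    simp [Scheme.isoSpec]
  let x' := (CohB1.ProjSpace 1 k).fromSpecResidueField x
  haveI : IsClosedImmersion x' := isClosed_singleton_iff_isClosedImmersion.mp hx
  haveI : IsFinite (x' ≫ l) := isFinite_iff_locallyOfFiniteType_of_jacobsonSpace.mpr inferInstance
  haveI : Surjective (x' ≫ CohB1.ProjSpace.toSpec 1 k) := ⟨fun t =>
    ⟨IsLocalRing.closedPoint _, Subsingleton.elim (α := PrimeSpectrum k) _ _⟩⟩
  haveI : UniversallyClosed ((x' ≫ CohB1.ProjSpace.toSpec 1 k) ≫ h) := by
    rw [Category.assoc, hh]; infer_instance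
  haveI : UniversallyClosed h := UniversallyClosed.of_comp_surjective (x' ≫ CohB1.ProjSpace.toSpec 1 k) h
  haveI : UniversallyClosed g := by
    rw [← hl, ← hh]; infer_instance
  haveI : IsSeparated g := by
    rw [← hl, ← hh]; infer_instance
  exact {}

/-- An exceptional curve in the fibre over a point is proper over an affine open in which the point is closed. -/
theorem exists_affine_nhd_proper {E X S : Scheme.{u}} [AlgebraicGeometry.IsNoetherian S] (f : X ⟶ S)
    [LocallyOfFiniteType f] [QuasiCompact f] (ι : E ⟶ X) [IsClosedImmersion ι] (hE : Models.IsExcCurve ι)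
    (s : S) (hs : Set.range ((ι ≫ f).base : E → S) = {s}) :
    ∃ (D : S.Opens) (_ : IsAffineOpen D) (gE : E ⟶ D.toScheme), gE ≫ D.ι = ι ≫ f ∧ IsProper gE ∧ s ∈ D ∧
      ∀ t : D.toScheme, t.1 = s → IsClosed ({t} : Set D.toScheme) := by
  haveI : LocallyOfFinitePresentation (ι ≫ f) := Coherent.CohBC.locallyOfFinitePresentation_of_isLocallyNoetherian _
  have hc := (ι ≫ f).isConstructible_image (s := Set.univ) Topology.IsConstructible.univ
  rw [Set.image_univ, hs] at hc
  obtain ⟨t, rfl, hlc⟩ := CommAlg6.exists_isLocallyClosed_singleton hc.isLocallyConstructible (Set.singleton_nonempty s)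
  obtain ⟨U, C, hU, hC, hUC⟩ := hlc
  have htU : t ∈ U := (hUC.le rfl).1
  obtain ⟨_, ⟨D, hD, rfl⟩, htD, hDU⟩ := (Opens.isBasis_iff_nbhd.mp S.isBasis_affineOpens (U := ⟨U, hU⟩) htU) |>
    fun ⟨D, h1, h2, h3⟩ => (⟨(D : Set S), ⟨D, h1, rfl⟩, h2, h3⟩ :
      ∃ W, (∃ D : S.Opens, IsAffineOpen D ∧ (D : Set S) = W) ∧ t ∈ W ∧ W ⊆ U)
  have hclosed : ∀ z : D.toScheme, z.1 = t → IsClosed ({z} : Set D.toScheme) := fun z hz => by
    have : ({z} : Set D.toScheme) = Subtype.val ⁻¹' C := by
      ext w
      constructor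
      · rintro rfl
        show w.1 ∈ C; rw [hz]; exact (hUC.le rfl).2
      · intro hw
        exact Subtype.ext ((hUC.ge ⟨hDU w.2, hw⟩).trans hz.symm)
    rw [this]
    exact hC.preimage continuous_subtype_val
  let gE : E ⟶ D.toScheme := IsOpenImmersion.lift D.ι (ι ≫ f) (by rw [Scheme.Opens.range_ι, hs]; simpa using htD)
  have hgE : gE ≫ D.ι = ι ≫ f := IsOpenImmersion.lift_fac _ _ _
  obtain ⟨-, k, hk, e, -⟩ := id hE
  haveI : LocallyOfFiniteType (gE ≫ D.ι) := hgE.symm ▸ inferInstance
  haveI : LocallyOfFiniteType gE := locallyOfFiniteType_of_comp gE D.ι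
  haveI : IsAffine D.toScheme := hD
  haveI : IsProper (e.hom ≫ gE) := isProper_projLine_of_point k (e.hom ≫ gE) ⟨t, htD⟩ (hclosed _ rfl)
    fun x => Subtype.ext (by
      have h : (ι ≫ f) (e.hom x) ∈ ({t} : Set S) := hs.le ⟨_, rfl⟩
      rw [← hgE] at h
      exact h)
  refine ⟨D, hD, gE, hgE, ?_, htD, hclosed⟩
  rw [← e.inv_hom_id_assoc gE]
  infer_instance

end Groth.Agent.ExcC13
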