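import Groth.Agent.Models7.ContractBundle
import Groth.Agent.Resolve13.ExcDegree
import Groth.Agent.Models7.ExcTransfer

/-! The degree zero bundle for contracting an exceptional curve, without bounds on fibre dimensions. -/

set_option autoImplicit false
set_option linter.style.haveILetI false
set_option backward.isDefEq.respectTransparency.types false
set_option maxHeartbeats 2000000

universe u

open CategoryTheory CategoryTheory.Limits AlgebraicGeometry TopologicalSpace Opposite
open Groth.Agent.Coherent Groth.Agent.PicLib Groth.Agent.AmpleLib Groth.Agent.EulerLib Groth.Agent.Models7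

namespace Groth.Agent.ExcC13

variable {X : Scheme.{u}} (J : X.IdealSheafData)

/-- The kernel of restriction to the subscheme has the cohomology of the twisted ideal. -/
theorem subsingleton_H1_kernel [IsLocallyNoetherian X] {L : X.Modules} (hL : PicF.IsInvertible L)
    (h : Subsingleton (Coh.HH X (CohB1.tensorMod (ClSub.idealMod J) L) 1)) :
    Subsingleton (Coh.HH X (kernel (clUnit J.subschemeι L)) 1) := by
  have hz : twistMul J L ≫ clUnit J.subschemeι L = 0 := AmpleLib.hom_ext fun U a b => by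
    show pullSec J.subschemeι ((twistMul J L).app U (tmul a b)) = _
    rw [twistMul_tmul, pullSec_smul, (mem_range_idealModι J U _).1 ⟨a, rfl⟩, zero_smul]
    rfl
  let μ : CohB1.tensorMod (ClSub.idealMod J) L ⟶ kernel (clUnit J.subschemeι L) :=
    kernel.lift _ (twistMul J L) hz
  haveI : Epi μ := by
    refine epi_of_locally_surjective _ fun W m y hy => ?_
    obtain ⟨V, hyV, g, hg⟩ := exists_isGen hL y
    let U := W ⊓ V
    let g' := resM L (inf_le_right : U ≤ V) g
    have hg' : IsGen L U g' := hg.restrict inf_le_right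
    let m' : Γ(L, U) := (kernel.ι (clUnit J.subschemeι L)).app U (resM _ inf_le_left m)
    obtain ⟨r, hr⟩ := (hg' U le_rfl).2 m'
    beta_reduce at hr
    rw [resM_self] at hr
    have h0 : pullSec J.subschemeι m' = 0 := kernel_ι_app_zero (clUnit J.subschemeι L) U _
    rw [← hr, pullSec_smul] at h0
    have hr0 : J.subschemeι.app U r = 0 := by
      refine ((isGen_pullSec J.subschemeι hg' hL) _ le_rfl).1 ?_
      show J.subschemeι.app U r • resM _ le_rfl _ = (0 : Γ(J.subscheme, _)) • resM _ le_rfl _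
      rw [resM_self, h0, zero_smul]
    obtain ⟨c, hc⟩ := (mem_range_idealModι J U r).2 hr0
    refine ⟨U, inf_le_left, ⟨hy, hyV⟩, tmul c g', ?_⟩
    refine app_injective_of_mono (kernel.ι (clUnit J.subschemeι L)) U ?_
    refine Eq.trans ?_ hr
    show ((μ ≫ kernel.ι _).app U) (tmul c g') = _
    rw [kernel.lift_ι, twistMul_tmul, hc]
  haveI : Mono μ := by
    haveI : Mono (μ ≫ kernel.ι (clUnit J.subschemeι L)) := by
      rw [kernel.lift_ι]; exact (twistMul_seq J hL).1
    exact mono_of_mono μ (kernel.ι (clUnit J.subschemeι L))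
  haveI : IsIso μ := isIso_of_mono_of_epi μ
  exact FlatMorStrat.subsingleton_HH_of_iso (asIso μ) 1 h

variable {R : Type u} [CommRing R] [IsNoetherianRing R] {E : Scheme.{u}}

/-- The twist of a power of the ample module that is trivial on the exceptional curve and generated by
sections whose loci off the curve are affine. -/
theorem exists_degZero (p : X ⟶ Spec (CommRingCat.of R)) [IsProper p] {H : X.Modules} (hH : CohB1.IsAmple H)
    {k : Type u} [Field k] (e : CohB1.ProjSpace 1 k ≅ J.subscheme) (hJ : BlowUp.IsEffCartierIdeal J)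
    (hd : P1Deg.HasDeg e ((Scheme.Modules.pullback J.subschemeι).obj (ClSub.idealMod J)) (1 : ℤ))
    (M : X.Modules) (hM : ClSub.IsInverseOf M (ClSub.idealMod J)) :
    ∃ m n : ℕ, 0 < m ∧
      P1Deg.HasDeg e ((Scheme.Modules.pullback J.subschemeι).obj (CohB1.tensorMod H (CohB1.tensorPow M n))) 0 ∧
      ∃ L : X.Modules, PicF.IsInvertible L ∧
        Nonempty (L ≅ CohB1.tensorPow (CohB1.tensorMod H (CohB1.tensorPow M n)) m) ∧
        P1Deg.HasDeg e ((Scheme.Modules.pullback J.subschemeι).obj L) 0 ∧ Lipman24.Gl L ∧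
        ∀ x ∉ (J.support : Set X), ∃ s : Γ(L, ⊤), x ∈ glocus L s ∧ IsAffineOpen (glocus L s) ∧
          Disjoint (glocus L s : Set X) (J.support : Set X) := by
  classical
  let _ : X.Over (Spec (CommRingCat.of R)) := ⟨p⟩
  haveI : IsProper (X ↘ Spec (CommRingCat.of R)) := ‹_›
  haveI : IsLocallyNoetherian X := LocallyOfFiniteType.isLocallyNoetherian p
  haveI : CompactSpace X := QuasiCompact.compactSpace_of_compactSpace p
  let ι := J.subschemeι
  let I := ClSub.idealMod J
  have hI : PicF.IsInvertible I := FlatMor12.IdealModGen.isInvertible_idealMod J hJ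
  have hHi := hH.1
  obtain ⟨tI⟩ := hM
  have hLE : PicF.IsInvertible M :=
    PicM.isInvertible_of_tensor hI (glocus_isInvertible_of_iso (tensorComm _ _ ≪≫ tI).symm isInvertible_structureModule)
  have hLEd : P1Deg.HasDeg e ((Scheme.Modules.pullback ι).obj M) (-1 : ℤ) := by
    obtain ⟨a⟩ := exists_pullTensorIso ι hI hLE
    obtain ⟨b⟩ := exists_pullStructureIso (X := X) ι
    exact P1Deg.HasDeg.inverse e (PicLoc.isInvertible_pullback ι hLE) (PicLoc.isInvertible_pullback ι hI)
      (tensorComm _ _ ≪≫ a.symm ≪≫ (Scheme.Modules.pullback ι).mapIso (tensorComm _ _ ≪≫ tI) ≪≫ b) hd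
  obtain ⟨n₀, hn₀⟩ := Coherent.Serre.exists_subsingleton_HH_twist R hH _ (isCoh_structureModule X)
  obtain ⟨n₁, hn₁⟩ := eventually_globallyGenerated hH _ (isCoh_structureModule X)
  let N := n₀ + n₁ + 1
  have hgg : ∀ n, N ≤ n → Curv2.IsGloballyGenerated (CohB1.tensorPow H n) := fun n hn =>
    globallyGenerated_of_iso (unitTensorIso _) (hn₁ n (by omega))
  obtain ⟨h₁, hh₁⟩ := P1Deg.exists_hasDeg e (PicLoc.isInvertible_pullback ι hHi)
  have hpowdeg : ∀ n, P1Deg.HasDeg e ((Scheme.Modules.pullback ι).obj (CohB1.tensorPow H n)) (n * h₁) := by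
    intro n
    obtain ⟨t, -⟩ := exists_pullPowIso ι hHi n
    exact (hh₁.pow e (PicLoc.isInvertible_pullback ι hHi) n).of_iso e t.symm
  have haff : ∀ n, 0 < n → ∀ t : Γ(CohB1.tensorPow H n, ⊤), IsAffineOpen (glocus _ t) := fun n hn t =>
    MorProj.isAffineOpen_glocus_of_universallyClosed p ((isAmple_pow_iff hHi n hn).2 hH) t
  have hpos : 0 < (N : ℤ) * h₁ :=
    (hpowdeg N).pos_of_affine J e (isInvertible_tensorPow hHi N)
      (Desc19b.exists_mem_glocus_of_gg (isInvertible_tensorPow hHi N) (hgg N le_rfl)) (haff N (by omega))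
  have hh₁pos : 0 < h₁ := by
    by_contra hle
    exact absurd hpos (not_lt.2 (mul_nonpos_of_nonneg_of_nonpos (by omega) (by omega)))
  obtain ⟨n, rfl⟩ : ∃ n : ℕ, h₁ = n := ⟨h₁.toNat, by omega⟩
  let r := n * N
  have hr0 : 0 < r := Nat.mul_pos (by omega) (by omega)
  let H' := CohB1.tensorPow H N
  have hH' : PicF.IsInvertible H' := isInvertible_tensorPow hHi _
  have hH'd : P1Deg.HasDeg e ((Scheme.Modules.pullback ι).obj H') (r : ℤ) := by
    have := hpowdeg N
    rwa [show (N : ℤ) * (n : ℤ) = (r : ℤ) by simp only [r]; push_cast; ring] at this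
  let Lf : ℕ → X.Modules := fun i => CohB1.tensorMod H' (CohB1.tensorPow M i)
  have hLf : ∀ i, PicF.IsInvertible (Lf i) := fun i => isInvertible_tensorMod hH' (isInvertible_tensorPow hLE i)
  have hLfd : ∀ i : ℕ, P1Deg.HasDeg e ((Scheme.Modules.pullback ι).obj (Lf i)) ((r : ℤ) - i) := by
    intro i
    obtain ⟨a⟩ := exists_pullTensorIso ι hH' (isInvertible_tensorPow hLE i)
    obtain ⟨b, -⟩ := exists_pullPowIso ι hLE i
    have h2 := ((hLEd.pow e (PicLoc.isInvertible_pullback ι hLE) i).of_iso e b.symm)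
    have h3 := (hH'd.tensor e (PicLoc.isInvertible_pullback ι hH')
      (PicLoc.isInvertible_pullback ι (isInvertible_tensorPow hLE i)) h2).of_iso e a.symm
    rwa [show (r : ℤ) + i * -1 = (r : ℤ) - i by ring] at h3
  have hiso : ∀ i, Nonempty (CohB1.tensorMod I (Lf (i + 1)) ≅ Lf i) := by
    intro i
    have hP := isInvertible_tensorPow hLE i
    obtain ⟨a₁, -⟩ := exists_assocIso hH' hP hLE
    obtain ⟨a₂, -⟩ := exists_assocIso (hLf i) hLE hI
    exact ⟨tensorComm _ _ ≪≫ Coherent.tensorIso a₁.symm (Iso.refl I) ≪≫ a₂ ≪≫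
      Coherent.tensorIso (Iso.refl (Lf i)) tI ≪≫ tensorComm _ _ ≪≫ unitTensorIso _⟩
  have hH1 : ∀ i ≤ r, Subsingleton (Coh.HH X (Lf i) 1) := by
    intro i hi
    induction i with
    | zero =>
      let a : CohB1.tensorMod (Coh.structureModule X) H' ≅ Lf 0 := tensorComm _ _
      exact FlatMorStrat.subsingleton_HH_of_iso a 1 (hn₀ N (by omega) 1 one_pos)
    | succ i ih =>
      obtain ⟨a⟩ := hiso i
      exact Resolve13.subsingleton_H1_of_restrict J (hLf (i + 1))
        (FlatMorStrat.subsingleton_HH_of_iso a.symm 1 (ih (by omega)))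
        ((hLfd (i + 1)).subsingleton_H1 e (PicLoc.isInvertible_pullback ι (hLf _)) (by omega))
  have hLd : P1Deg.HasDeg e ((Scheme.Modules.pullback ι).obj (Lf r)) 0 := by
    have := hLfd r
    rwa [sub_self] at this
  have hn1 : P1Deg.HasDeg e ((Scheme.Modules.pullback ι).obj (CohB1.tensorMod H (CohB1.tensorPow M n))) 0 := by
    obtain ⟨a⟩ := exists_pullTensorIso ι hHi (isInvertible_tensorPow hLE n)
    obtain ⟨b, -⟩ := exists_pullPowIso ι hLE n
    have h3 := (hh₁.tensor e (PicLoc.isInvertible_pullback ι hHi)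
      (PicLoc.isInvertible_pullback ι (isInvertible_tensorPow hLE n))
      ((hLEd.pow e (PicLoc.isInvertible_pullback ι hLE) n).of_iso e b.symm)).of_iso e a.symm
    rwa [show (n : ℤ) + n * -1 = 0 by ring] at h3
  have hpow : Nonempty (Lf r ≅ CohB1.tensorPow (CohB1.tensorMod H (CohB1.tensorPow M n)) N) := by
    obtain ⟨a, -⟩ := exists_powTensorIso hHi (isInvertible_tensorPow hLE n) N
    obtain ⟨b, -⟩ := exists_powPowIso hLE n N
    exact ⟨(a ≪≫ Coherent.tensorIso (Iso.refl H') b).symm⟩
  obtain ⟨r', hr'⟩ : ∃ r', r = r' + 1 := ⟨r - 1, by omega⟩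
  obtain ⟨a⟩ := hiso r'
  rw [← hr'] at a
  have hsurj : Function.Surjective (pullSec ι (L := Lf r) (U := ⊤)) :=
    Lipman24.surjective_pullSec_of_H1 ι (subsingleton_H1_kernel J (hLf _)
      (FlatMorStrat.subsingleton_HH_of_iso a.symm 1 (hH1 r' (by omega))))
  obtain ⟨u, hu⟩ := AbCubeLib.exists_section_of_effCartier J hJ hLE ⟨tI⟩
  have hoff : ∀ x ∉ (J.support : Set X), ∃ s : Γ(Lf r, ⊤), x ∈ glocus _ s ∧
      IsAffineOpen (glocus _ s) ∧ Disjoint (glocus _ s : Set X) (J.support : Set X) := by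
    intro x hx
    obtain ⟨t, ht⟩ := Desc19b.exists_mem_glocus_of_gg hH' (hgg _ le_rfl) x
    have hg : glocus _ (tmul t (powSec u r)) = glocus H' t ⊓ glocus M u := by
      have key : ∀ j : ℕ, 0 < j → glocus _ (tmul t (powSec u j)) = glocus H' t ⊓ glocus M u := by
        intro j hj
        obtain ⟨j', rfl⟩ : ∃ j', j = j' + 1 := ⟨j - 1, by omega⟩
        rw [glocus_tmul hH' (isInvertible_tensorPow hLE _), glocus_powSec hLE]
      exact key r hr0
    refine ⟨tmul t (powSec u r), ?_, ?_, ?_⟩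
    · rw [hg]; exact ⟨ht, (hu ▸ hx : x ∈ (glocus M u : Set X))⟩
    · rw [hg, inf_comm]
      exact isAffineOpen_glocus_inf hLE u (haff N (by omega) t)
    · rw [hg, Opens.coe_inf, hu]
      exact Set.disjoint_left.2 fun z hz hz' => hz.2 hz'
  refine ⟨N, n, by omega, hn1, Lf r, hLf _, hpow, hLd, fun x => ?_, hoff⟩
  by_cases hx : x ∈ (J.support : Set X)
  · rw [← J.range_subschemeι] at hx
    obtain ⟨z, rfl⟩ := hx
    exact Lipman24.exists_mem_glocus_of_pullback ι (hLf _) hsurj (hLd.gl e le_rfl) z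
  · obtain ⟨s, hs, -⟩ := hoff x hx
    exact ⟨s, hs⟩

end Groth.Agent.ExcC13
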