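import Groth.Agent.ExcC13.Stalks
import Groth.Agent.Resolve13.ContractPic
import Groth.Agent.Resolve13.ExcDegree
import Groth.Agent.Resolve13.LocalBase
import Groth.Agent.Models7.PointBlowUpIso
import Groth.Agent.SDiv28.StalkCartier
import Groth.Agent.SDiv28.BlowUp
import Groth.Agent.VarietyLib.AffineNhd
import Groth.Agent.CAlgH.RegularGenerization
import Groth.Agent.Props12.Stalks
import Groth.Agent.DimLib.Formula

/-! A proper map collapsing exactly an exceptional curve is a contraction. -/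

set_option autoImplicit false
set_option linter.style.haveILetI false
set_option backward.isDefEq.respectTransparency.types false

universe u

open CategoryTheory CategoryTheory.Limits AlgebraicGeometry TopologicalSpace IsLocalRing
open Groth.Agent.Coherent Groth.Agent.PicLib Groth.Agent.Models7 Groth.Agent.Misc15.DivDescent Groth.Agent.SDiv28.CartierPart

namespace Groth.Agent.ExcC13

variable {E X Y : Scheme.{u}}

theorem injective_of_isIso_restrict (b : X ⟶ Y) (V : Y.Opens) [IsIso (b ∣_ V)] {a c : X} (h : b a = b c)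
    (ha : b a ∈ V) : a = c := by
  have e : (b ∣_ V) ⟨a, ha⟩ = (b ∣_ V) ⟨c, by show b c ∈ V; exact h ▸ ha⟩ :=
    Subtype.ext (by rw [morphismRestrict_base_coe, morphismRestrict_base_coe]; exact h)
  exact congrArg Subtype.val ((b ∣_ V).homeomorph.injective e)

theorem specializes_of_isIso_restrict (b : X ⟶ Y) (V : Y.Opens) [IsIso (b ∣_ V)] {a c : X} (h : b a ⤳ b c)
    (ha : b a ∈ V) (hc : b c ∈ V) : a ⤳ c := by
  have h1 : (b ∣_ V) ⟨a, ha⟩ ⤳ (b ∣_ V) ⟨c, hc⟩ :=
    Topology.IsInducing.subtypeVal.specializes_iff.1 (by rw [morphismRestrict_base_coe, morphismRestrict_base_coe]; exact h)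
  exact ((b ∣_ V).homeomorph.isInducing.specializes_iff.1 h1).map continuous_subtype_val

theorem exists_of_isIso_restrict (b : X ⟶ Y) (V : Y.Opens) [IsIso (b ∣_ V)] {z : Y} (hz : z ∈ V) :
    ∃ a, b a = z := by
  obtain ⟨a, ha⟩ := (b ∣_ V).homeomorph.surjective ⟨z, hz⟩
  exact ⟨a.1, (morphismRestrict_base_coe b V a).symm.trans (congrArg Subtype.val ha)⟩

theorem isIso_stalkMap_of_mem (b : X ⟶ Y) (V : Y.Opens) [IsIso (b ∣_ V)] {a : X} (ha : b a ∈ V) :
    IsIso (b.stalkMap a) := by
  have : IsIso ((b ∣_ V).stalkMap ⟨a, ha⟩) := ((isIso_iff_isIso_stalkMap (b ∣_ V)).mp ‹IsIso (b ∣_ V)›).2 _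
  exact ((MorphismProperty.isomorphisms CommRingCat.{u}).arrow_mk_iso_iff (morphismRestrictStalkMap b V ⟨a, ha⟩)).1 this

/-- The target of a collapse of an exceptional curve is two-dimensional at the image point. -/
theorem two_le_dim_target [IsLocallyNoetherian X] (ι : E ⟶ X) [IsClosedImmersion ι] (hE : Models.IsExcCurve ι)
    (b : X ⟶ Y) (y : Y) (hy : IsClosed ({y} : Set Y)) (hpre : b.base ⁻¹' {y} = Set.range ι.base)
    (hiso : IsIso (b ∣_ (⟨{y}ᶜ, hy.isOpen_compl⟩ : Y.Opens))) :
    2 ≤ ringKrullDim (Y.presheaf.stalk y) := by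
  obtain ⟨a, -, -, -, -, ha⟩ := exists_point_dim_one ι hE
  obtain ⟨hR, hEr, t, ht0, htm, hker, hdim⟩ := exists_stalk_param ι hE a
  haveI := hR
  haveI := hEr
  haveI := CAlgH3.isDomain_of_isRegularLocalRing (X.presheaf.stalk (ι a))
  haveI := CAlgH3.isDomain_of_isRegularLocalRing (E.presheaf.stalk a)
  rw [ha] at hdim
  haveI hP : (Ideal.span {t}).IsPrime := hker ▸ RingHom.ker_isPrime _
  let P : PrimeSpectrum (X.presheaf.stalk (ι a)) := ⟨Ideal.span {t}, hP⟩
  -- the maximal ideal is not generated by `t`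
  have hne : Ideal.span {t} ≠ maximalIdeal (X.presheaf.stalk (ι a)) := fun h => by
    have h1 : (maximalIdeal (X.presheaf.stalk (ι a))).spanFinrank ≤ 1 := by
      rw [← h]
      exact (Submodule.spanFinrank_span_le_ncard_of_finite (Set.finite_singleton t)).trans (Set.ncard_singleton t).le
    have h2 := ringKrullDim_le_spanFinrank_maximalIdeal (R := X.presheaf.stalk (ι a))
    rw [hdim] at h2
    have h3 : (1 : WithBot ℕ∞) + 1 ≤ 1 := h2.trans (by exact_mod_cast h1)
    exact absurd h3 (by decide)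
  obtain ⟨x, hxm, hxt⟩ := SetLike.exists_of_lt
    (lt_of_le_of_ne ((Ideal.span_singleton_le_iff_mem _).2 htm) hne)
  obtain ⟨Q, hQ, -⟩ := Ideal.exists_minimalPrimes_le (I := Ideal.span {x})
    (J := maximalIdeal (X.presheaf.stalk (ι a))) ((Ideal.span_singleton_le_iff_mem _).2 hxm)
  haveI : Q.IsPrime := hQ.1.1
  have hQh : Q.height ≤ 1 := Ideal.height_le_one_of_isPrincipal_of_mem_minimalPrimes (Ideal.span {x}) Q hQ
  have hxQ : x ∈ Q := hQ.1.2 (Ideal.mem_span_singleton_self x)
  have htQ : t ∉ Q := fun h => by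
    have hle : Ideal.span {t} ≤ Q := (Ideal.span_singleton_le_iff_mem _).2 h
    rcases hle.lt_or_eq with hlt | heq
    · have h1 := Ideal.height_add_one_le_of_lt_of_isPrime hlt
      have h2 : 1 ≤ (Ideal.span {t}).height := by
        have h3 : (⊥ : Ideal (X.presheaf.stalk (ι a))) < Ideal.span {t} :=
          bot_lt_iff_ne_bot.2 fun h0 => ht0 (Ideal.span_singleton_eq_bot.1 h0)
        exact le_add_self.trans (Ideal.height_add_one_le_of_lt_of_isPrime h3)
      exact absurd (((add_le_add h2 le_rfl).trans h1).trans hQh) (by decide)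
    · exact hxt (heq ▸ hxQ)
  have hQne : (⊥ : Ideal (X.presheaf.stalk (ι a))) < Q := bot_lt_iff_ne_bot.2 fun h => by
    rw [h, Ideal.mem_bot] at hxQ
    exact hxt (hxQ ▸ zero_mem _)
  let s := X.fromSpecStalk (ι a)
  let z0 := s (⟨⊥, Ideal.isPrime_bot⟩ : PrimeSpectrum (X.presheaf.stalk (ι a)))
  let z1 := s (⟨Q, inferInstance⟩ : PrimeSpectrum (X.presheaf.stalk (ι a)))
  have h01 : z0 ⤳ z1 := Specializes.map ((PrimeSpectrum.le_iff_specializes
    (⟨⊥, Ideal.isPrime_bot⟩ : PrimeSpectrum (X.presheaf.stalk (ι a))) ⟨Q, inferInstance⟩).1 bot_le) s.continuous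
  have hgen : ∀ q : PrimeSpectrum (X.presheaf.stalk (ι a)), t ∉ q.asIdeal → b (s q) ≠ y ∧ b (s q) ⤳ y := by
    intro q htq
    have hq : s q ⤳ ι a := by
      have := Set.mem_range_self (f := s) q
      rwa [Scheme.range_fromSpecStalk] at this
    refine ⟨fun h => ?_, ?_⟩
    · obtain ⟨c, hc⟩ := hpre.le (show s q ∈ b.base ⁻¹' {y} from h)
      obtain ⟨P', hP'⟩ : c ∈ Set.range (E.fromSpecStalk a) :=
        Scheme.range_fromSpecStalk.ge (ι.isClosedEmbedding.isInducing.specializes_iff.1 (hc ▸ hq))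
      have h1 : s (Spec.map (ι.stalkMap a) P') = s q := by
        rw [← Scheme.Hom.comp_apply, Scheme.SpecMap_stalkMap_fromSpecStalk, Scheme.Hom.comp_apply, hP']
        exact hc
      have h2 := (X.fromSpecStalk (ι a)).isEmbedding.injective h1
      refine htq (h2 ▸ ?_)
      show (ι.stalkMap a).hom t ∈ P'.asIdeal
      rw [RingHom.mem_ker.1 (hker ▸ Ideal.mem_span_singleton_self t)]
      exact zero_mem _
    · have hya : b (ι a) = y := hpre.ge ⟨a, rfl⟩
      exact hya ▸ hq.map b.continuous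
  obtain ⟨hn0, hs0⟩ := hgen ⟨⊥, Ideal.isPrime_bot⟩ (fun h => ht0 (Ideal.mem_bot.1 h))
  obtain ⟨hn1, hs1⟩ := hgen ⟨Q, inferInstance⟩ htQ
  have hne01 : b z0 ≠ b z1 := fun h => hQne.ne (congrArg PrimeSpectrum.asIdeal
    (s.isEmbedding.injective (injective_of_isIso_restrict b (⟨{y}ᶜ, hy.isOpen_compl⟩ : Y.Opens) h hn0)))
  obtain ⟨P0, hP0⟩ : b z0 ∈ Set.range (Y.fromSpecStalk y) := Scheme.range_fromSpecStalk.ge hs0
  obtain ⟨P1, hP1⟩ : b z1 ∈ Set.range (Y.fromSpecStalk y) := Scheme.range_fromSpecStalk.ge hs1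
  let P0' : PrimeSpectrum (Y.presheaf.stalk y) := P0
  let P1' : PrimeSpectrum (Y.presheaf.stalk y) := P1
  have hlt1 : P0' < P1' := lt_of_le_of_ne ((PrimeSpectrum.le_iff_specializes P0' P1').2
    ((Y.fromSpecStalk y).isEmbedding.isInducing.specializes_iff.1 (by rw [hP0, hP1]; exact h01.map b.continuous)))
    fun h => hne01 (hP0.symm.trans ((congrArg (Y.fromSpecStalk y) h).trans hP1))
  have hlt2 : P1' < closedPoint (Y.presheaf.stalk y) :=
    lt_of_le_of_ne (IsLocalRing.le_maximalIdeal P1'.isPrime.ne_top :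
      P1'.asIdeal ≤ (closedPoint (Y.presheaf.stalk y)).asIdeal)
      fun h => hn1 (hP1.symm.trans ((congrArg (Y.fromSpecStalk y) (show P1 = closedPoint _ from h)).trans
        Scheme.fromSpecStalk_closedPoint))
  have := Order.LTSeries.length_le_krullDim (((RelSeries.singleton _ P0').snoc _ hlt1).snoc _ (by simpa using hlt2))
  simpa [ringKrullDim] using this

set_option maxHeartbeats 2000000 in
/-- A proper map with `O_Y = b_* O_X` that collapses exactly an exceptional curve to a point and is an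
isomorphism elsewhere is the contraction. -/
theorem isContractionOf_of_iso_off [AlgebraicGeometry.IsNoetherian X] [AlgebraicGeometry.IsNoetherian Y]
    (ι : E ⟶ X) [IsClosedImmersion ι] (hE : Models.IsExcCurve ι) (b : X ⟶ Y) [IsProper b]
    (happ : ∀ U : Y.Opens, IsIso (b.app U)) (y : Y) (hy : IsClosed ({y} : Set Y))
    (hrange : Set.range ((ι ≫ b).base : E → Y) = {y}) (hpre : b.base ⁻¹' {y} = Set.range ι.base)
    (hiso : IsIso (b ∣_ (⟨{y}ᶜ, hy.isOpen_compl⟩ : Y.Opens))) :
    Models.IsContractionOf ι b := by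
  haveI := hiso
  let V : Y.Opens := ⟨{y}ᶜ, hy.isOpen_compl⟩
  have hmemV : ∀ {z : Y}, z ≠ y → z ∈ V := fun h => h
  -- the finite fibres
  have hfin : ∀ w : Y, w ≠ y → (b.base ⁻¹' {w}).Finite := fun w hw =>
    Set.Subsingleton.finite fun a ha c hc => injective_of_isIso_restrict b V
      ((Set.mem_singleton_iff.1 ha).trans (Set.mem_singleton_iff.1 hc).symm)
      (hmemV (by rw [Set.mem_singleton_iff.1 ha]; exact hw))
  have hfib : ∀ w : Y, topologicalKrullDim ↥(b.fiber w) ≤ 1 := by
    intro w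
    by_cases hw : w = y
    · subst hw
      obtain ⟨-, k, _, e, -⟩ := hE
      let φ : b.fiber w ≃ₜ ↥(CohB1.ProjSpace 1 k) :=
        ((b.fiberHomeo w).trans (Homeomorph.setCongr hpre)).trans
          ((ι.isClosedEmbedding.toIsEmbedding.toHomeomorph).symm.trans e.inv.homeomorph)
      rw [φ.isHomeomorph.topologicalKrullDim_eq]
      simpa using (DimLib.PN.topologicalKrullDim_projSpace 1 k).le
    · haveI : Subsingleton ↥(b.fiber w) := ⟨fun p q => (b.fiberHomeo w).injective (Subtype.ext
        (injective_of_isIso_restrict b V ((b.fiberHomeo w p).2.trans (b.fiberHomeo w q).2.symm)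
          (hmemV (by rw [(b.fiberHomeo w p).2]; exact hw))))⟩
      exact (Resolve13.Modification.dim_le_zero fun a c _ => Subsingleton.elim a c).trans zero_le_one
  -- regularity of the target
  let J := ι.ker
  have hd2 := two_le_dim_target ι hE b y hy hpre hiso
  obtain ⟨hD, k, hk, e₀, φ₀⟩ := hE
  have hE : Models.IsExcCurve ι := ⟨hD, k, hk, e₀, φ₀⟩
  haveI : IsIso ι.toImage := inferInstance
  let e : CohB1.ProjSpace 1 k ≅ J.subscheme := e₀ ≪≫ asIso ι.toImage
  have he : e.hom ≫ J.subschemeι = e₀.hom ≫ ι := by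
    show (e₀.hom ≫ ι.toImage) ≫ ι.imageι = _
    rw [Category.assoc, ι.toImage_imageι]
  have hdeg : P1Deg.HasDeg e ((Scheme.Modules.pullback J.subschemeι).obj (ClSub.idealMod J)) ((1 : ℕ) : ℤ) :=
    ⟨(Scheme.Modules.pullbackComp e.hom J.subschemeι).app _ ≪≫
      (Scheme.Modules.pullbackCongr he).app _ ≪≫ φ₀.some⟩
  have hsuppJ : b.base ⁻¹' {y} = (J.support : Set X) := by
    rw [hpre, Scheme.Hom.support_ker]
    exact ι.isClosedEmbedding.isClosed_range.closure_eq.symm
  have hcot : Module.finrank (ResidueField (Y.presheaf.stalk y)) (CotangentSpace (Y.presheaf.stalk y)) = 1 + 1 :=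
    finrank_cotangent_of_contraction b happ hfib J hD e hdeg y hy hsuppJ hfin
  have hspan : (maximalIdeal (Y.presheaf.stalk y)).spanFinrank = 2 := by
    rw [IsLocalRing.spanFinrank_maximalIdeal_eq_finrank_cotangentSpace, hcot]
  haveI hA : IsRegularLocalRing (Y.presheaf.stalk y) :=
    IsRegularLocalRing.of_spanFinrank_maximalIdeal_le _ (by rw [hspan]; exact hd2)
  have hAdim : ringKrullDim (Y.presheaf.stalk y) = 2 := by
    rw [← IsRegularLocalRing.spanFinrank_maximalIdeal (R := Y.presheaf.stalk y), hspan]; rfl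
  haveI := CAlgH3.isDomain_of_isRegularLocalRing (Y.presheaf.stalk y)
  -- the base change to the local ring
  let s := Y.fromSpecStalk y
  let Q := pullback b s
  let p : Q ⟶ X := pullback.fst b s
  let q : Q ⟶ Spec (Y.presheaf.stalk y) := pullback.snd b s
  haveI : IsPreimmersion p := MorphismProperty.pullback_fst _ _ inferInstance
  haveI : Flat s := Props12.flat_fromSpecStalk y
  let m₀ : Spec (Y.presheaf.stalk y) := closedPoint (Y.presheaf.stalk y)
  have hs0 : s m₀ = y := Scheme.fromSpecStalk_closedPoint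
  have hm : IsClosed ({m₀} : Set (Spec (Y.presheaf.stalk y))) := IsLocalRing.isClosed_singleton_closedPoint (R := Y.presheaf.stalk y)
  have hqm : ∀ t, q t = m₀ ↔ b (p t) = y := fun t => by
    have h1 : b (p t) = s (q t) := by
      rw [← Scheme.Hom.comp_apply, ← Scheme.Hom.comp_apply, pullback.condition]
    refine ⟨fun h => h1.trans ((congrArg s h).trans hs0), fun h => s.isEmbedding.injective ?_⟩
    exact h1.symm.trans (h.trans hs0.symm)
  have hmem : ∀ x : X, b x ⤳ y → ∃ t, p t = x := fun x h => by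
    have : x ∈ Set.range p := by
      rw [Scheme.Pullback.range_fst]
      show b x ∈ Set.range s
      rw [Scheme.range_fromSpecStalk]; exact h
    exact this
  have hle : ∀ t, b (p t) ⤳ y := fun t => by
    have h1 : b (p t) = s (q t) := by
      rw [← Scheme.Hom.comp_apply, ← Scheme.Hom.comp_apply, pullback.condition]
    rw [h1]
    have := Set.mem_range_self (f := s) (q t)
    rwa [Scheme.range_fromSpecStalk] at this
  let W : (Spec (Y.presheaf.stalk y)).Opens := ⟨{m₀}ᶜ, hm.isOpen_compl⟩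
  have hWeq : s ⁻¹ᵁ V = W := Opens.ext (Set.ext fun w =>
    ⟨fun h hw => h (show s w = y by rw [show w = m₀ from hw, hs0]),
      fun h hw => h (s.isEmbedding.injective ((show s w = y from hw).trans hs0.symm))⟩)
  haveI hqW : IsIso (q ∣_ W) := hWeq ▸ Resolve13.LocalBase.exists_isIso_restrict b y V
  have hstp : ∀ t, IsIso (p.stalkMap t) := fun t => Props12.isIso_stalkMap_fst b y t
  let eP : ∀ t, X.presheaf.stalk (p t) ≃+* Q.presheaf.stalk t := fun t =>
    haveI := hstp t; (asIso (p.stalkMap t)).commRingCatIsoToRingEquiv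
  have hEreg : ∀ x ∈ Set.range ι.base, IsRegularLocalRing (X.presheaf.stalk x) ∧ ringKrullDim (X.presheaf.stalk x) ≤ 2 := by
    rintro _ ⟨a, rfl⟩
    obtain ⟨h1, -, t, -, -, -, h2⟩ := exists_stalk_param ι hE a
    exact ⟨h1, h2 ▸ (add_le_add (stalk_dim_le_one ι hE a) le_rfl).trans (le_of_eq one_add_one_eq_two)⟩
  have hQreg : ∀ t : Q, IsRegularLocalRing (Q.presheaf.stalk t) := fun t => by
    have hx : IsRegularLocalRing (X.presheaf.stalk (p t)) := by
      by_cases h : b (p t) = y
      · exact (hEreg _ (hpre.le h)).1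
      · haveI := isIso_stalkMap_of_mem b V (hmemV h)
        haveI := CAlgH.RegularGenerization.isRegularLocalRing_of_specializes (hle t)
        exact IsRegularLocalRing.of_ringEquiv (asIso (b.stalkMap (p t))).commRingCatIsoToRingEquiv
    exact IsRegularLocalRing.of_ringEquiv (eP t)
  have hQdim : ∀ t : Q, ringKrullDim (Q.presheaf.stalk t) ≤ 2 := fun t => by
    by_cases h : b (p t) = y
    · rw [← ringKrullDim_eq_of_ringEquiv (eP t)]; exact (hEreg _ (hpre.le h)).2
    · haveI := isIso_stalkMap_of_mem q W (show q t ≠ m₀ from fun h' => h ((hqm t).1 h'))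
      rw [← ringKrullDim_eq_of_ringEquiv (asIso (q.stalkMap t)).commRingCatIsoToRingEquiv, ← hAdim]
      exact (CurvesLib24.stalk_dim_le_topologicalKrullDim (q t)).trans
        (le_of_eq (PrimeSpectrum.topologicalKrullDim_eq_ringKrullDim _))
  let η : Spec (Y.presheaf.stalk y) := (⟨⊥, Ideal.isPrime_bot⟩ : PrimeSpectrum (Y.presheaf.stalk y))
  have hηW : η ∈ W := fun h => by
    have h1 : (⊥ : Ideal (Y.presheaf.stalk y)) = maximalIdeal (Y.presheaf.stalk y) :=
      congrArg PrimeSpectrum.asIdeal (show η = m₀ from h)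
    have h2 : (maximalIdeal (Y.presheaf.stalk y)).spanFinrank = 0 := by rw [← h1]; exact Submodule.spanFinrank_bot
    omega
  obtain ⟨η', hη'⟩ := exists_of_isIso_restrict q W hηW
  have hgenQ : ∀ t : Q, η' ⤳ t := by
    have hoff : ∀ t : Q, q t ∈ W → η' ⤳ t := fun t ht =>
      specializes_of_isIso_restrict q W
        (hη' ▸ (PrimeSpectrum.le_iff_specializes (⟨⊥, Ideal.isPrime_bot⟩ : PrimeSpectrum (Y.presheaf.stalk y)) (q t)).1 bot_le)
        (hη'.symm ▸ hηW) ht
    intro t
    by_cases ht : q t = m₀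
    · obtain ⟨a, ha⟩ := hpre.le ((hqm t).1 ht)
      obtain ⟨hRa, -, t₁, ht₁, -, hker, -⟩ := exists_stalk_param ι hE a
      haveI := hRa
      haveI := CAlgH3.isDomain_of_isRegularLocalRing (X.presheaf.stalk (ι a))
      let z := X.fromSpecStalk (ι a) (⟨⊥, Ideal.isPrime_bot⟩ : PrimeSpectrum (X.presheaf.stalk (ι a)))
      have hz : z ⤳ ι a := by
        have := Set.mem_range_self (f := X.fromSpecStalk (ι a))
          (⟨⊥, Ideal.isPrime_bot⟩ : PrimeSpectrum (X.presheaf.stalk (ι a)))
        rwa [Scheme.range_fromSpecStalk] at this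
      have hzy : b z ≠ y := fun h => by
        obtain ⟨c, hc⟩ := hpre.le (show z ∈ b.base ⁻¹' {y} from h)
        obtain ⟨P', hP'⟩ : c ∈ Set.range (E.fromSpecStalk a) :=
          Scheme.range_fromSpecStalk.ge (ι.isClosedEmbedding.isInducing.specializes_iff.1 (hc ▸ hz))
        have h1 : X.fromSpecStalk (ι a) (Spec.map (ι.stalkMap a) P') = z := by
          rw [← Scheme.Hom.comp_apply, Scheme.SpecMap_stalkMap_fromSpecStalk, Scheme.Hom.comp_apply, hP']
          exact hc
        have h2 := congrArg PrimeSpectrum.asIdeal ((X.fromSpecStalk (ι a)).isEmbedding.injective h1)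
        refine ht₁ ?_
        have h3 : t₁ ∈ (Spec.map (ι.stalkMap a) P').asIdeal := by
          show (ι.stalkMap a).hom t₁ ∈ P'.asIdeal
          rw [RingHom.mem_ker.1 (hker ▸ Ideal.mem_span_singleton_self t₁)]
          exact zero_mem _
        rw [h2] at h3
        exact Ideal.mem_bot.1 h3
      obtain ⟨u, hu⟩ := hmem z ((hz.map b.continuous).trans (by rw [ha, (hqm t).1 ht]))
      have hut : u ⤳ t := p.isEmbedding.isInducing.specializes_iff.1 (by rw [hu, ← ha]; exact hz)
      exact (hoff u (fun h => hzy (hu ▸ (hqm u).1 h))).trans hut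
    · exact hoff t ht
  haveI : IrreducibleSpace Q := by
    haveI : Nonempty Q := ⟨η'⟩
    haveI : PreirreducibleSpace Q := ⟨fun u v hu hv ⟨c, _, hc⟩ ⟨d, _, hd⟩ =>
      ⟨η', trivial, (hgenQ c).mem_open hu hc, (hgenQ d).mem_open hv hd⟩⟩
    exact ⟨inferInstance⟩
  haveI : AlgebraicGeometry.IsReduced Q := by
    haveI : ∀ t : Q, _root_.IsReduced (Q.presheaf.stalk t) := fun t => by
      haveI := hQreg t
      haveI := CAlgH3.isDomain_of_isRegularLocalRing (Q.presheaf.stalk t)
      infer_instance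
    exact isReduced_of_isReduced_stalk Q
  haveI : IsIntegral Q := isIntegral_of_irreducibleSpace_of_isReduced _
  haveI : IsProper q := MorphismProperty.pullback_snd _ _ inferInstance
  haveI : IsIntegral (Spec (Y.presheaf.stalk y)) := inferInstance
  haveI : IsLocallyNoetherian Q := LocallyOfFiniteType.isLocallyNoetherian q
  haveI : CompactSpace Q := QuasiCompact.compactSpace_of_compactSpace q
  haveI : Q.IsSeparated := ⟨by
    rw [show terminal.from Q = q ≫ terminal.from _ from terminal.hom_ext _ _]; infer_instance⟩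
  have hm0 : m₀ ≠ genericPoint (Spec (Y.presheaf.stalk y)) := fun h => hηW (by
    have h1 : genericPoint (Spec (Y.presheaf.stalk y)) ⤳ η := genericPoint_specializes η
    rw [← h] at h1
    exact h1.mem_closed hm rfl)
  have hYreg : ∀ w : Spec (Y.presheaf.stalk y), IsRegularLocalRing ((Spec (Y.presheaf.stalk y)).presheaf.stalk w) := fun w => by
    haveI := VarietyLib.isIso_stalkMap_of_flat_of_isPreimmersion s w
    haveI := CAlgH.RegularGenerization.isRegularLocalRing_of_specializes (show s w ⤳ y by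
      have := Set.mem_range_self (f := s) w
      rwa [Scheme.range_fromSpecStalk] at this)
    exact IsRegularLocalRing.of_ringEquiv (asIso (s.stalkMap w)).commRingCatIsoToRingEquiv
  have hfibQ : q.base ⁻¹' {m₀} = p.base ⁻¹' (Set.range ι.base) := Set.ext fun t =>
    ⟨fun h => hpre.le ((hqm t).1 h), fun h => (hqm t).2 (hpre.ge h)⟩
  have hirr : IsPreirreducible (q.base ⁻¹' {m₀}) := by
    haveI : IsIntegral E := Models7.isIntegral_of_isExcCurve hE
    rw [hfibQ]
    intro u v hu hv ⟨c, hc, hcu⟩ ⟨d, hd, hdv⟩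
    obtain ⟨u', hu', rfl⟩ := p.isEmbedding.isInducing.isOpen_iff.1 hu
    obtain ⟨v', hv', rfl⟩ := p.isEmbedding.isInducing.isOpen_iff.1 hv
    obtain ⟨c', hc'⟩ := hc
    obtain ⟨d', hd'⟩ := hd
    obtain ⟨a, -, hau, hav⟩ := (IrreducibleSpace.isIrreducible_univ E).2 (ι.base ⁻¹' u') (ι.base ⁻¹' v')
      (hu'.preimage ι.continuous) (hv'.preimage ι.continuous) ⟨c', trivial, show ι c' ∈ u' from hc' ▸ hcu⟩
      ⟨d', trivial, show ι d' ∈ v' from hd' ▸ hdv⟩
    obtain ⟨t, ht⟩ := hmem (ι a) (by rw [hpre.ge ⟨a, rfl⟩])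
    exact ⟨t, ⟨a, ht.symm⟩, show p t ∈ u' from ht ▸ hau, show p t ∈ v' from ht ▸ hav⟩
  have hbig : ∃ t t' : Q, t ≠ t' ∧ q t = m₀ ∧ q t' = m₀ := by
    obtain ⟨a, c, -, hne, -, -⟩ := exists_point_dim_one ι hE
    obtain ⟨t, ht⟩ := hmem (ι a) (by rw [hpre.ge ⟨a, rfl⟩])
    obtain ⟨t', ht'⟩ := hmem (ι c) (by rw [hpre.ge ⟨c, rfl⟩])
    exact ⟨t, t', fun h => hne (ι.isClosedEmbedding.injective (ht'.symm.trans ((congrArg p h).symm.trans ht))),
      (hqm t).2 (ht ▸ hpre.ge ⟨a, rfl⟩), (hqm t').2 (ht' ▸ hpre.ge ⟨c, rfl⟩)⟩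
  have hblQ := isBlowUp_of_irreducible_fibre hQreg hYreg
    (by
      rw [DimLib.topologicalKrullDim_eq_krullDim, Order.krullDim_eq_iSup_coheight]
      exact iSup_le fun t => by rw [← ringKrullDim_stalk_eq_coheight]; exact hQdim t)
    (by rw [show topologicalKrullDim (Spec (Y.presheaf.stalk y)) = ringKrullDim (Y.presheaf.stalk y) from
      PrimeSpectrum.topologicalKrullDim_eq_ringKrullDim _, hAdim])
    q m₀ hm hm0 hqW hirr hbig
  -- comparison of the centres
  let I := Scheme.IdealSheafData.vanishingIdeal (⟨{y}, hy⟩ : Closeds Y)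
  have hIs : I.comap s = Scheme.IdealSheafData.vanishingIdeal ⟨{m₀}, hm⟩ := by
    refine Misc15.DivDescent.ext_stk fun w => ?_
    rw [Misc15.DivDescent.stk_comap]
    by_cases hw : w = m₀
    · subst hw
      rw [stk_vanishingIdeal_point]
      haveI := VarietyLib.isIso_stalkMap_of_flat_of_isPreimmersion s m₀
      have key : ∀ z, z = y → stk I z = maximalIdeal (Y.presheaf.stalk z) := by
        rintro z rfl; exact stk_vanishingIdeal_point z hy
      rw [key _ hs0]
      exact IsLocalRing.map_maximalIdeal_of_surjective _ (ConcreteCategory.bijective_of_isIso (s.stalkMap m₀)).2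
    · have h1 : w ∉ (Scheme.IdealSheafData.vanishingIdeal (⟨{m₀}, hm⟩ : Closeds _)).support :=
        fun h => hw ((Scheme.IdealSheafData.coe_support_vanishingIdeal _).le h)
      have h2 : s w ∉ I.support := fun h => hw (s.isEmbedding.injective
        (((Scheme.IdealSheafData.coe_support_vanishingIdeal (⟨{y}, hy⟩ : Closeds Y)).le h : s w = y).trans hs0.symm))
      rw [stk_eq_top h1, stk_eq_top h2, Ideal.map_top]
  -- the inverse image of the point is Cartier
  have hcart : BlowUp.IsEffCartierIdeal (I.comap b) := by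
    refine SDiv28.StalkCartier.isEffCartierIdeal_of_stalks _ fun x hx U hxU => ?_
    have hxy : b x = y := by
      rw [← SetLike.mem_coe, Scheme.IdealSheafData.support_comap] at hx
      exact (Scheme.IdealSheafData.coe_support_vanishingIdeal _).le hx
    obtain ⟨t, rfl⟩ := hmem x (by rw [hxy])
    rw [← Misc15.DivDescent.stk_eq _ U hxU]
    have h2 : (I.comap b).comap p = (Scheme.IdealSheafData.vanishingIdeal ⟨{m₀}, hm⟩).comap q := by
      rw [← hIs, ← Scheme.IdealSheafData.comap_comp, ← Scheme.IdealSheafData.comap_comp, pullback.condition]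
    obtain ⟨g, hg, hgI⟩ := Misc15.DivDescent.exists_gen hblQ.1 t
    rw [← h2, Misc15.DivDescent.stk_comap] at hgI
    refine ⟨(eP t).symm g, ?_, ?_⟩
    · rw [← MulEquivClass.map_nonZeroDivisors (eP t).symm]
      exact ⟨g, hg, rfl⟩
    · have h3 := congrArg (Ideal.map ((eP t).symm : Q.presheaf.stalk t →+* X.presheaf.stalk (p t))) hgI
      rw [Ideal.map_span, Set.image_singleton, Ideal.map_map] at h3
      have h4 : ((eP t).symm : Q.presheaf.stalk t →+* X.presheaf.stalk (p t)).comp (p.stalkMap t).hom = RingHom.id _ :=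
        RingHom.ext fun r => (eP t).symm_apply_apply r
      rw [h4, Ideal.map_id] at h3
      exact h3
  obtain ⟨B, π, hπ⟩ := BlowUpLib.exists_isBlowUp I
  obtain ⟨h, hh, -⟩ := hπ.2 X b hcart
  haveI : IsProper π := BlowUpLib.isProper_of_isBlowUp hπ (FlatMorAdm.isFiniteTypeIdeal_of_noetherian I)
  haveI : IsProper (h ≫ π) := by rw [hh]; infer_instance
  haveI : IsProper h := IsProper.of_comp h π
  have hπh : ∀ x, π (h x) = b x := fun x => congrArg (fun k : X ⟶ Y => k x) hh
  haveI hπV : IsIso (π ∣_ V) := ProjLib.isIso_morphismRestrict hπ _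
    (Set.disjoint_left.mpr fun _ h h' => h' ((Scheme.IdealSheafData.coe_support_vanishingIdeal _).le h))
  -- the two local blow-ups agree
  let μ : Q ⟶ pullback π s := pullback.map b s π s h (𝟙 _) (𝟙 _) (by rw [Category.comp_id, hh]) (by rw [Category.comp_id, Category.id_comp])
  have hblB : BlowUp.IsBlowUp (pullback.snd π s) (Scheme.IdealSheafData.vanishingIdeal ⟨{m₀}, hm⟩) := by
    have h1 := SDiv28.isBlowUp_flat_baseChange hπ s
    rw [hIs] at h1
    have := isBlowUp_iso_comp (pullbackSymmetry π s) h1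
    rwa [pullbackSymmetry_hom_comp_fst] at this
  haveI hμ : IsIso μ := by
    obtain ⟨e1, he1⟩ := BlowUpLib.exists_iso_of_isBlowUp hblQ hblB
    have h1 : μ ≫ pullback.snd π s = q := (pullback.lift_snd _ _ _).trans (Category.comp_id _)
    have h2 : μ = e1.hom := (hblB.2 Q q hblQ.1).unique h1 he1
    rw [h2]; infer_instance
  have hμp : μ ≫ pullback.fst π s = p ≫ h := pullback.lift_fst _ _ _
  have hBmem : ∀ w : B, π w = y → ∃ u, pullback.fst π s u = w := fun w hw => by
    have : w ∈ Set.range (pullback.fst π s) := by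
      rw [Scheme.Pullback.range_fst]
      show π w ∈ Set.range s
      rw [Scheme.range_fromSpecStalk, hw]
      exact specializes_rfl
    exact this
  haveI : IsPreimmersion (pullback.fst π s) := MorphismProperty.pullback_fst _ _ inferInstance
  have hbij : Function.Bijective h.base := by
    refine ⟨fun a c hac => ?_, fun w => ?_⟩
    · have hb : b a = b c := by rw [← hπh, ← hπh]; exact congrArg π hac
      by_cases hay : b a = y
      · obtain ⟨u, rfl⟩ := hmem a (by rw [hay])
        obtain ⟨v, rfl⟩ := hmem c (by rw [← hb, hay])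
        refine congrArg p (μ.homeomorph.injective ((pullback.fst π s).isEmbedding.injective ?_))
        show pullback.fst π s (μ u) = pullback.fst π s (μ v)
        rw [← Scheme.Hom.comp_apply, ← Scheme.Hom.comp_apply, hμp, Scheme.Hom.comp_apply, Scheme.Hom.comp_apply]
        exact hac
      · exact injective_of_isIso_restrict b V hb (hmemV hay)
    · by_cases hw : π w = y
      · obtain ⟨u, rfl⟩ := hBmem w hw
        obtain ⟨v, rfl⟩ := μ.homeomorph.surjective u
        exact ⟨p v, by
          show h (p v) = pullback.fst π s (μ v)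
          rw [← Scheme.Hom.comp_apply, ← Scheme.Hom.comp_apply, hμp]⟩
      · obtain ⟨a, ha⟩ := exists_of_isIso_restrict b V (hmemV hw)
        exact ⟨a, injective_of_isIso_restrict π V ((hπh a).trans ha) (by rw [hπh, ha]; exact hmemV hw)⟩
  have hst : ∀ x, IsIso (h.stalkMap x) := fun x => by
    by_cases hxy : b x = y
    · obtain ⟨u, rfl⟩ := hmem x (by rw [hxy])
      haveI := hstp u
      haveI : IsIso ((μ ≫ pullback.fst π s).stalkMap u) := by
        rw [Scheme.Hom.stalkMap_comp]
        exact IsIso.comp_isIso' (Props12.isIso_stalkMap_fst π y (μ u))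
          (((isIso_iff_isIso_stalkMap μ).1 hμ).2 u)
      have h1 : IsIso ((p ≫ h).stalkMap u) := by rw [← hμp]; assumption
      rw [Scheme.Hom.stalkMap_comp] at h1
      exact @IsIso.of_isIso_comp_right _ _ _ _ _ (h.stalkMap (p u)) (p.stalkMap u) (hstp u) h1
    · haveI := isIso_stalkMap_of_mem π V (a := h x) (by rw [hπh]; exact hmemV hxy)
      haveI := isIso_stalkMap_of_mem b V (hmemV hxy)
      have h1 : IsIso ((h ≫ π).stalkMap x) := by subst hh; infer_instance
      rw [Scheme.Hom.stalkMap_comp] at h1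
      exact @IsIso.of_isIso_comp_left _ _ _ _ _ (π.stalkMap (h x)) (h.stalkMap x)
        (isIso_stalkMap_of_mem π V (a := h x) (by rw [hπh]; exact hmemV hxy)) h1
  haveI : IsIso h := by
    haveI := hst
    haveI : IsOpenImmersion h := IsOpenImmersion.of_isIso_stalkMap h
      (Topology.IsClosedEmbedding.of_continuous_injective_isClosedMap h.continuous hbij.1 h.isClosedMap
        |> fun hc => ⟨hc.toIsEmbedding, by rw [hbij.2.range_eq]; exact isOpen_univ⟩)
    exact (isIso_iff_isOpenImmersion_and_surjective h).2 ⟨inferInstance, ⟨hbij.2⟩⟩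
  refine ⟨inferInstance, inferInstance, y, hy, hrange, hA, hAdim, hcart, fun S g hg => ?_⟩
  obtain ⟨k', hk', huniq⟩ := hπ.2 S g hg
  refine ⟨k' ≫ inv h, ?_, fun l hl => ?_⟩
  · show (k' ≫ inv h) ≫ b = g
    rw [← hh, Category.assoc, IsIso.inv_hom_id_assoc]; exact hk'
  · have := huniq (l ≫ h) (by show (l ≫ h) ≫ π = g; rw [Category.assoc, hh]; exact hl)
    rw [← this, Category.assoc, IsIso.hom_inv_id, Category.comp_id]

end Groth.Agent.ExcC13
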