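import Groth.Agent.AmpleLib.Local
import Groth.Agent.AmpleLib.Sections
import Groth.Agent.PicLib.PicMonoid
import Groth.Agent.H8Lim.Approximation

/-! Tools for descending ampleness along a contraction. -/

set_option autoImplicit false
set_option linter.style.haveILetI false
set_option backward.isDefEq.respectTransparency.types false
set_option maxHeartbeats 1000000

universe u

open CategoryTheory CategoryTheory.Limits AlgebraicGeometry TopologicalSpace Opposite
open Groth.Agent.Coherent Groth.Agent.PicLib Groth.Agent.AmpleLib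

namespace Groth.Agent.ExcC13

variable {X Z : Scheme.{u}}

theorem isIso_restrict_mono (b : X ⟶ Z) {U U' : Z.Opens} (hle : U' ≤ U) (h : IsIso (b ∣_ U)) :
    IsIso (b ∣_ U') := by
  refine MorphismProperty.of_isPullback (P := MorphismProperty.isomorphisms Scheme.{u}) (f := Z.homOfLE hle) (g := b ∣_ U)
    (f' := X.homOfLE (b.preimage_mono hle)) (g' := b ∣_ U') ?_ h
  refine IsPullback.of_right (h₁₂ := (b ⁻¹ᵁ U).ι) (h₂₂ := U.ι) (v₁₃ := b) ?_
    (morphismRestrict_homOfLE b _ _ hle).symm (isPullback_morphismRestrict b U).flip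
  rw [Scheme.homOfLE_ι, Scheme.homOfLE_ι]
  exact (isPullback_morphismRestrict b U').flip

theorem isIso_restrict_restrict (b : X ⟶ Z) (U V : Z.Opens) (h : IsIso (b ∣_ V)) :
    IsIso ((b ∣_ U) ∣_ (U.ι ⁻¹ᵁ V)) := by
  refine ((MorphismProperty.isomorphisms Scheme.{u}).arrow_mk_iso_iff (morphismRestrictRestrict b U (U.ι ⁻¹ᵁ V))).2 ?_
  exact isIso_restrict_mono b (by rintro _ ⟨z, hz, rfl⟩; exact hz) h

theorem isIso_app_restrict (b : X ⟶ Z) (U : Z.Opens) (h : ∀ V, IsIso (b.app V)) (V : U.toScheme.Opens) :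
    IsIso ((b ∣_ U).app V) := by
  rw [morphismRestrict_app]
  exact IsIso.comp_isIso' (h _) (Functor.map_isIso X.presheaf _)

theorem glocus_le_powSec {L : X.Modules} (hL : PicF.IsInvertible L) (a : Γ(L, ⊤)) :
    ∀ n : ℕ, glocus L a ≤ glocus (CohB1.tensorPow L n) (powSec a n)
  | 0 => by
    show _ ≤ glocus (Coh.structureModule X) (oneSec ⊤)
    rw [glocus_oneSec]; exact le_top
  | n + 1 => (glocus_powSec hL a n).ge

/-- A section upstairs whose affine locus avoids the exceptional set descends. -/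
theorem affGlocus_descend (b : X ⟶ Z) (happ : ∀ V, IsIso (b.app V)) [Surjective b] (Vo : Z.Opens)
    (hiso : IsIso (b ∣_ Vo)) {L' : Z.Modules} (hL' : PicF.IsInvertible L') {H : X.Modules}
    (α : (Scheme.Modules.pullback b).obj L' ≅ H) {m : ℕ} (hm : 0 < m) (u : Γ(CohB1.tensorPow H m, ⊤))
    (hu : glocus _ u ≤ b ⁻¹ᵁ Vo) (haff : IsAffineOpen (glocus _ u)) {x : X} (hx : x ∈ glocus _ u) :
    AffGlocus L' (b x) ⊤ := by
  have hP := isInvertible_tensorPow hL' m
  obtain ⟨e, -⟩ := exists_pullPowIso b hL' m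
  let e' := e ≪≫ powIsoOfIso α m
  obtain ⟨u', hu'⟩ := (bijective_pullSec_of_le b hP ⊤ fun V _ => (haveI := happ V;
    ConcreteCategory.bijective_of_isIso (b.app V))).2 (e'.inv.app ⊤ u)
  have hG : b ⁻¹ᵁ glocus _ u' = glocus _ u := by
    rw [← glocus_pullSec b hP, show pullSec b u' = e'.inv.app ⊤ u from hu']
    exact glocus_map_iso e'.symm u
  have hle : glocus _ u' ≤ Vo := fun z hz => by
    obtain ⟨w, rfl⟩ := b.surjective z
    exact hu (hG.le hz)
  refine ⟨m, hm, u', hG.ge hx, le_top, ?_⟩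
  haveI := isIso_restrict_mono b hle hiso
  haveI : IsAffine (b ⁻¹ᵁ glocus _ u').toScheme := by rw [hG]; exact haff
  exact IsAffine.of_isIso (inv (b ∣_ glocus _ u'))

/-- Sections of `L ^ m` and of `M` give sections of `(L ⊗ M ^ n) ^ m`. -/
theorem exists_sec_tensor_pow {L M : X.Modules} (hL : PicF.IsInvertible L) (hM : PicF.IsInvertible M) {m : ℕ}
    (t : Γ(CohB1.tensorPow L m, ⊤)) (s : Γ(M, ⊤)) (n : ℕ) (hts : glocus _ t ≤ glocus M s) :
    ∃ u : Γ(CohB1.tensorPow (CohB1.tensorMod L (CohB1.tensorPow M n)) m, ⊤), glocus _ u = glocus _ t := by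
  obtain ⟨e, -⟩ := exists_powTensorIso hL (isInvertible_tensorPow hM n) m
  refine ⟨e.inv.app ⊤ (tmul t (powSec (powSec s n) m)), ?_⟩
  refine (glocus_map_iso e.symm _).trans ?_
  rw [glocus_tmul (isInvertible_tensorPow hL m) (isInvertible_tensorPow (isInvertible_tensorPow hM n) m)]
  exact inf_eq_left.2 ((hts.trans (glocus_le_powSec hM s n)).trans (glocus_le_powSec (isInvertible_tensorPow hM n) _ m))

end Groth.Agent.ExcC13
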