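import Groth.Agent.ExcC13.Criterion
import Groth.Agent.H8Lim.Approximation

/-! A contraction of an exceptional curve on an open neighbourhood glues to one on the whole scheme. -/

set_option autoImplicit false
set_option linter.style.haveILetI false
set_option backward.isDefEq.respectTransparency.types false
set_option maxHeartbeats 1000000

universe u

open CategoryTheory CategoryTheory.Limits AlgebraicGeometry TopologicalSpace Opposite
open Groth.Agent.Models7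

namespace Groth.Agent.ExcC13

/-- A property invariant under isomorphism passes from a local square to the restriction. -/
theorem prop_restrict_of_square (P : MorphismProperty Scheme.{u}) [P.RespectsIso] {X Z X₁ Z₁ : Scheme.{u}}
    (b : X ⟶ Z) (b₁ : X₁ ⟶ Z₁) (a : Z₁ ⟶ Z) (w : X₁ ⟶ X) [IsOpenImmersion a] [IsOpenImmersion w]
    (h : w ≫ b = b₁ ≫ a) (hr : w.opensRange = b ⁻¹ᵁ a.opensRange) (h₁ : P b₁) :
    P (b ∣_ a.opensRange) := by
  let e₁ : X₁ ≅ (b ⁻¹ᵁ a.opensRange).toScheme := w.isoOpensRange ≪≫ X.isoOfEq hr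
  let e₂ : Z₁ ≅ a.opensRange.toScheme := a.isoOpensRange
  have h1 : e₁.hom ≫ (b ⁻¹ᵁ a.opensRange).ι = w := by simp [e₁]
  have h2 : e₂.hom ≫ a.opensRange.ι = a := by simp [e₂]
  have he : e₁.hom ≫ (b ∣_ a.opensRange) = b₁ ≫ e₂.hom := by
    rw [← cancel_mono a.opensRange.ι, Category.assoc, Category.assoc, morphismRestrict_ι, h2, reassoc_of% h1, h]
  exact (P.arrow_mk_iso_iff (Arrow.isoMk (f := Arrow.mk b₁) (g := Arrow.mk (b ∣_ a.opensRange)) e₁ e₂ he)).1 h₁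

/-- Functions on opens below an open where the morphism is a base change of one with the same functions. -/
theorem isIso_app_of_square {X Z X₁ Z₁ : Scheme.{u}} (b : X ⟶ Z) (b₁ : X₁ ⟶ Z₁) (a : Z₁ ⟶ Z) (w : X₁ ⟶ X)
    [IsOpenImmersion a] [IsOpenImmersion w]
    (h : w ≫ b = b₁ ≫ a) (hr : w.opensRange = b ⁻¹ᵁ a.opensRange) (h₁ : ∀ U, IsIso (b₁.app U))
    (V : Z.Opens) (hV : V ≤ a.opensRange) : IsIso (b.app V) := by
  haveI : IsIso (a.app V) := a.isIso_app V hV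
  haveI : IsIso (w.app (b ⁻¹ᵁ V)) := w.isIso_app (b ⁻¹ᵁ V) (hr ▸ b.preimage_mono hV)
  haveI := h₁ (a ⁻¹ᵁ V)
  have e := Scheme.Hom.congr_app h V
  rw [Scheme.Hom.comp_app, Scheme.Hom.comp_app] at e
  haveI : IsIso (b₁.app (a ⁻¹ᵁ V)) := h₁ _
  haveI : IsIso (b.app V ≫ w.app (b ⁻¹ᵁ V)) := by
    rw [e]
    exact IsIso.comp_isIso' (IsIso.comp_isIso' ‹IsIso (a.app V)› ‹IsIso (b₁.app (a ⁻¹ᵁ V))›) (Functor.map_isIso X₁.presheaf _)
  exact IsIso.of_isIso_comp_right _ (w.app (b ⁻¹ᵁ V))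

set_option backward.isDefEq.respectTransparency false in
theorem isIso_app_of_opens {X Z : Scheme.{u}} (b : X ⟶ Z) {ι : Type*} (U : ι → Z.Opens) (hU : ⨆ i, U i = ⊤)
    (h : ∀ i V, V ≤ U i → IsIso (b.app V)) (V : Z.Opens) : IsIso (b.app V) := by
  let φ : Z.sheaf ⟶ (TopCat.Sheaf.pushforward CommRingCat b.base).obj X.sheaf := ⟨b.c⟩
  let B : {V : Z.Opens // ∃ i, V ≤ U i} → Z.Opens := fun V => V.1
  have hB : Opens.IsBasis (Set.range B) := by
    rw [Opens.isBasis_iff_nbhd]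
    intro W z hz
    obtain ⟨i, hi⟩ := Opens.mem_iSup.1 (hU.ge (Opens.mem_top z))
    exact ⟨W ⊓ U i, ⟨⟨W ⊓ U i, i, inf_le_right⟩, rfl⟩, ⟨hz, hi⟩, inf_le_left⟩
  have hφ : IsIso φ := TopCat.Sheaf.isIso_iff_isIso_basis (B := B) hB fun ⟨V, i, hi⟩ => h i V hi
  exact inferInstanceAs (IsIso (((sheafToPresheaf _ _).map φ).app (op V)))

/-- A contraction on an open neighbourhood extends to the scheme. -/
theorem exists_glue_contraction {E X : Scheme.{u}} [AlgebraicGeometry.IsNoetherian X] (ι : E ⟶ X)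
    [IsClosedImmersion ι] (hE : Models.IsExcCurve ι) (W : X.Opens) (ιW : E ⟶ W.toScheme) [IsClosedImmersion ιW]
    (hι : ιW ≫ W.ι = ι) (hEW : Models.IsExcCurve ιW) {Z₁ : Scheme.{u}} (b₁ : W.toScheme ⟶ Z₁)
    (hb₁ : Models.IsContractionOf ιW b₁) :
    ∃ (Z : Scheme.{u}) (b : X ⟶ Z) (a : Z₁ ⟶ Z) (_ : IsOpenImmersion a),
      Models.IsContractionOf ι b ∧ b ⁻¹ᵁ a.opensRange = W ∧ W.ι ≫ b = b₁ ≫ a ∧
      (∀ z : Z, z ∈ a.opensRange ∨ ∃ x ∉ Set.range ι.base, b x = z) := by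
  obtain ⟨y, hy, hfib, hyim, hreg, hdim, hbl⟩ := Resolve13.range_eq_fibre ιW hEW b₁ hb₁
  haveI := hb₁.1
  haveI := hb₁.2.1
  haveI := hreg
  have happ₁ : ∀ U, IsIso (b₁.app U) :=
    Resolve13.isIso_app_of_appBasis (Resolve13.appBasis_pointBlowUp y hy hdim b₁ hbl)
  let V₁ : Z₁.Opens := ⟨{y}ᶜ, hy.isOpen_compl⟩
  haveI hiso₁ : IsIso (b₁ ∣_ V₁) := ProjLib.isIso_morphismRestrict hbl _
    (Set.disjoint_left.mpr fun _ h h' => h' ((Scheme.IdealSheafData.coe_support_vanishingIdeal _).le h))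
  let Ec : X.Opens := ⟨(Set.range ι.base)ᶜ, ι.isClosedEmbedding.isClosed_range.isOpen_compl⟩
  have hrι : ∀ x : W.toScheme, W.ι x ∈ Set.range ι.base ↔ b₁ x = y := fun x => by
    have h2 : b₁ x = y ↔ x ∈ Set.range ιW.base := by rw [← hfib]; rfl
    rw [h2]
    constructor
    · rintro ⟨e, he⟩
      exact ⟨e, W.ι.isOpenEmbedding.injective (by rw [← Scheme.Hom.comp_apply, hι]; exact he)⟩
    · rintro ⟨e, rfl⟩
      exact ⟨e, by rw [← hι]; rfl⟩
  let j : V₁.toScheme ⟶ Ec.toScheme := IsOpenImmersion.lift Ec.ι (inv (b₁ ∣_ V₁) ≫ (b₁ ⁻¹ᵁ V₁).ι ≫ W.ι) (by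
    rw [Scheme.Opens.range_ι]
    rintro _ ⟨o, rfl⟩ hc
    exact ((inv (b₁ ∣_ V₁)) o).2 ((hrι _).1 hc))
  have hj : j ≫ Ec.ι = inv (b₁ ∣_ V₁) ≫ (b₁ ⁻¹ᵁ V₁).ι ≫ W.ι := IsOpenImmersion.lift_fac _ _ _
  haveI : IsOpenImmersion j := by
    haveI : IsOpenImmersion (j ≫ Ec.ι) := by rw [hj]; infer_instance
    exact IsOpenImmersion.of_comp j Ec.ι
  obtain ⟨Z, a, c, -, ha, hc, hac, -, -, hcov, hint⟩ :=
    H8Lim.exists_glue_two V₁.ι j (terminal.from Z₁) (terminal.from Ec.toScheme) (terminal.hom_ext _ _)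
  haveI := ha
  haveI := hc
  have hj' : ∀ o : V₁.toScheme, (j o).1 ∈ W := fun o => by
    have : Ec.ι (j o) = W.ι ((b₁ ⁻¹ᵁ V₁).ι ((inv (b₁ ∣_ V₁)) o)) := by rw [← Scheme.Hom.comp_apply, hj]; rfl
    show Ec.ι (j o) ∈ W
    rw [this]
    exact ((b₁ ⁻¹ᵁ V₁).ι ((inv (b₁ ∣_ V₁)) o)).2
  -- the morphism
  obtain ⟨r, hr₁, hr₂⟩ := H8Lim.exists_glue_hom W Ec (b₁ ≫ a) c (by
    let l : (W ⊓ Ec).toScheme ⟶ (b₁ ⁻¹ᵁ V₁).toScheme :=
      IsOpenImmersion.lift (b₁ ⁻¹ᵁ V₁).ι (X.homOfLE inf_le_left) (by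
        rw [Scheme.Opens.range_ι]
        rintro _ ⟨x, rfl⟩
        show b₁ _ ≠ y
        intro h
        have h2 := (hrι _).2 h
        rw [← Scheme.Hom.comp_apply, Scheme.homOfLE_ι] at h2
        exact x.2.2 h2)
    have hl : l ≫ (b₁ ⁻¹ᵁ V₁).ι = X.homOfLE inf_le_left := IsOpenImmersion.lift_fac _ _ _
    have hl2 : l ≫ (b₁ ∣_ V₁) ≫ j = X.homOfLE (inf_le_right : W ⊓ Ec ≤ Ec) := by
      rw [← cancel_mono Ec.ι, Category.assoc, Category.assoc, hj, Scheme.homOfLE_ι, IsIso.hom_inv_id_assoc,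
        reassoc_of% hl, Scheme.homOfLE_ι]
    rw [← hl2, ← hl]
    simp only [Category.assoc]
    rw [← hac, ← morphismRestrict_ι_assoc])
  let top : X ⟶ (W ⊔ Ec).toScheme := IsOpenImmersion.lift (W ⊔ Ec).ι (𝟙 X) (by
    rw [Scheme.Opens.range_ι]
    intro x _
    by_cases hx : x ∈ Set.range ι.base
    · obtain ⟨e, rfl⟩ := hx
      exact Or.inl (by rw [← hι]; exact (ιW e).2)
    · exact Or.inr hx)
  have htop : top ≫ (W ⊔ Ec).ι = 𝟙 X := IsOpenImmersion.lift_fac _ _ _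
  let b : X ⟶ Z := top ≫ r
  have hbW : W.ι ≫ b = b₁ ≫ a := by
    rw [← hr₁, ← Category.assoc]
    congr 1
    rw [← cancel_mono (W ⊔ Ec).ι, Category.assoc, htop, Category.comp_id, Scheme.homOfLE_ι]
  have hbE : Ec.ι ≫ b = c := by
    rw [← hr₂, ← Category.assoc]
    congr 1
    rw [← cancel_mono (W ⊔ Ec).ι, Category.assoc, htop, Category.comp_id, Scheme.homOfLE_ι]
  have hbW' : ∀ x : W.toScheme, b x.1 = a (b₁ x) := fun x => by
    rw [← Scheme.Hom.comp_apply b₁, ← hbW]; rfl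
  have hbE' : ∀ x : Ec.toScheme, b x.1 = c x := fun x => by
    conv_rhs => rw [← hbE]
    rfl
  have hcase : ∀ x : X, x ∈ W ∨ x ∈ Ec := fun x => by
    by_cases hx : x ∈ Set.range ι.base
    · obtain ⟨e, rfl⟩ := hx
      exact Or.inl (by rw [← hι]; exact (ιW e).2)
    · exact Or.inr hx
  have hpa : b ⁻¹ᵁ a.opensRange = W := Opens.ext (Set.ext fun x => ⟨fun ⟨z, hz⟩ => by
    rcases hcase x with hx | hx
    · exact hx
    · rw [hbE' ⟨x, hx⟩] at hz
      obtain ⟨o, -, ho⟩ := hint _ _ hz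
      have := hj' o
      rwa [ho] at this,
    fun hx => ⟨b₁ ⟨x, hx⟩, (hbW' ⟨x, hx⟩).symm⟩⟩)
  have hay : ∀ x : Ec.toScheme, c x ≠ a y := fun x h => by
    obtain ⟨o, ho, -⟩ := hint _ _ h.symm
    exact o.2 ho
  have hpc : b ⁻¹ᵁ c.opensRange = Ec := Opens.ext (Set.ext fun x => ⟨fun ⟨z, hz⟩ => by
    by_contra hx
    obtain ⟨e, he⟩ := not_not.1 (show ¬ x ∉ Set.range ι.base from hx)
    have h1 : b x = a y := by
      rw [← he, ← hι]
      exact (hbW' (ιW e)).trans (congrArg _ (hfib.ge ⟨e, rfl⟩))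
    exact hay z (hz.trans h1),
    fun hx => ⟨⟨x, hx⟩, (hbE' ⟨x, hx⟩).symm⟩⟩)
  have hwr : W.ι.opensRange = b ⁻¹ᵁ a.opensRange := by rw [Scheme.Opens.opensRange_ι, hpa]
  have hcr : Ec.ι.opensRange = b ⁻¹ᵁ c.opensRange := by rw [Scheme.Opens.opensRange_ι, hpc]
  have hsq : Ec.ι ≫ b = 𝟙 _ ≫ c := by rw [hbE, Category.id_comp]
  let U : Bool → Z.Opens := fun t => bif t then a.opensRange else c.opensRange
  have hUcov : ⨆ t, U t = ⊤ := eq_top_iff.2 fun z _ => by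
    rcases hcov z with h | h
    · exact Opens.mem_iSup.2 ⟨true, h⟩
    · exact Opens.mem_iSup.2 ⟨false, h⟩
  have hisoc : IsIso (b ∣_ c.opensRange) :=
    prop_restrict_of_square (MorphismProperty.isomorphisms _) b (𝟙 _) c Ec.ι hsq hcr (inferInstanceAs (IsIso (𝟙 _)))
  haveI : IsProper b := by
    rw [IsZariskiLocalAtTarget.iff_of_iSup_eq_top (P := @IsProper) U hUcov]
    rintro (_ | _)
    · haveI := hisoc
      exact (inferInstance : IsProper (b ∣_ c.opensRange))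
    · exact prop_restrict_of_square @IsProper b b₁ a W.ι hbW hwr inferInstance
  have happ : ∀ V : Z.Opens, IsIso (b.app V) := isIso_app_of_opens b U hUcov fun t V hV => by
    cases t
    · exact isIso_app_of_square b (𝟙 _) c Ec.ι hsq hcr (fun _ => inferInstance) V hV
    · exact isIso_app_of_square b b₁ a W.ι hbW hwr happ₁ V hV
  haveI : IsLocallyNoetherian Z₁ := inferInstance
  haveI : IsLocallyNoetherian Ec.toScheme := inferInstance
  haveI : IsLocallyNoetherian Z := by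
    refine (isLocallyNoetherian_iff_openCover (Z.openCoverOfIsOpenCover U hUcov)).2 ?_
    rintro (_ | _)
    · exact isLocallyNoetherian_of_isOpenImmersion c.isoOpensRange.inv
    · exact isLocallyNoetherian_of_isOpenImmersion a.isoOpensRange.inv
  haveI : CompactSpace Z := ⟨by
    haveI : CompactSpace Ec.toScheme := isCompact_iff_compactSpace.1 (NoetherianSpace.isCompact (Ec : Set X))
    rw [show (Set.univ : Set Z) = Set.range a ∪ Set.range c from (Set.eq_univ_of_forall hcov).symm]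
    exact (isCompact_range a.continuous).union (isCompact_range c.continuous)⟩
  haveI : AlgebraicGeometry.IsNoetherian Z := {}
  -- the point
  have hcompl : ({a y} : Set Z)ᶜ = Set.range c := by
    refine Set.Subset.antisymm (fun z hz => ?_) ?_
    · rcases hcov z with ⟨w, rfl⟩ | h
      · have hw : w ≠ y := fun h => hz (congrArg a h)
        refine ⟨j ⟨w, hw⟩, ?_⟩
        rw [← Scheme.Hom.comp_apply, ← hac]; rfl
      · exact h
    · rintro _ ⟨x, rfl⟩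
      exact hay x
  have hy' : IsClosed ({a y} : Set Z) := ⟨by rw [hcompl]; exact c.opensRange.2⟩
  have hpre : b.base ⁻¹' {a y} = Set.range ι.base := by
    ext x
    constructor
    · intro hx
      by_contra h
      exact hay ⟨x, h⟩ ((hbE' ⟨x, h⟩).symm.trans hx)
    · rintro ⟨e, rfl⟩
      show b (ι e) = a y
      rw [← hι]
      exact (hbW' (ιW e)).trans (congrArg _ (hfib.ge ⟨e, rfl⟩))
  refine ⟨Z, b, a, inferInstance, ?_, hpa, hbW, fun z => ?_⟩
  · refine isContractionOf_of_iso_off ι hE b happ (a y) hy' ?_ hpre ?_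
    · refine Set.Subset.antisymm ?_ ?_
      · rintro _ ⟨e, rfl⟩
        exact hpre.ge ⟨e, rfl⟩
      · rintro _ rfl
        obtain ⟨x, hx⟩ := hyim
        obtain ⟨e, rfl⟩ := hfib.le hx
        exact ⟨e, hpre.ge ⟨e, rfl⟩⟩
    · rw [show (⟨{a y}ᶜ, hy'.isOpen_compl⟩ : Z.Opens) = c.opensRange from Opens.ext hcompl]
      exact hisoc
  · rcases hcov z with h | ⟨x, rfl⟩
    · exact Or.inl h
    · exact Or.inr ⟨x.1, x.2, hbE' x⟩

end Groth.Agent.ExcC13
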