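import Groth.Agent.Models7.ExcTransfer
import Groth.Agent.SDiv28.StalkCartier
import Groth.Prelude.Def_ModelsG

/-! Exceptional curves and open immersions. -/

set_option autoImplicit false
set_option linter.style.haveILetI false
set_option backward.isDefEq.respectTransparency false
set_option maxHeartbeats 1000000

universe u

open CategoryTheory CategoryTheory.Limits AlgebraicGeometry TopologicalSpace
open Groth.Agent.Misc15.DivDescent Groth.Agent.SDiv28.CartierPart

namespace Groth.Agent.ExcC13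

/-- A closed subscheme of an open that stays closed is exceptional in both or in neither. -/
theorem isExcCurve_open_iff {E W X : Scheme.{u}} [IsLocallyNoetherian X] (w : W ⟶ X) [IsOpenImmersion w]
    (ιW : E ⟶ W) (ι : E ⟶ X) [IsClosedImmersion ιW] [IsClosedImmersion ι] (h : ιW ≫ w = ι) :
    ι.ker.comap w = ιW.ker ∧ (Models.IsExcCurve ιW ↔ Models.IsExcCurve ι) := by
  have hrange' : ∀ z : X, z ∉ Set.range ι.base → stk ι.ker z = ⊤ := fun z hz => stk_eq_top (fun h => hz (by
    have h' : z ∈ closure (Set.range ι.base) := ((ι.support_ker).le h)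
    rwa [ι.isClosedEmbedding.isClosed_range.closure_eq] at h'))
  have hrange : ∀ x : W, x ∉ Set.range ιW.base → stk ιW.ker x = ⊤ := fun x hx => stk_eq_top (fun h => hx (by
    have h' : x ∈ closure (Set.range ιW.base) := ((ιW.support_ker).le h)
    rwa [ιW.isClosedEmbedding.isClosed_range.closure_eq] at h'))
  subst h
  have hkey : ∀ e : E, stk (ιW ≫ w).ker (w (ιW e)) = (stk ιW.ker (ιW e)).comap (w.stalkMap (ιW e)).hom := by
    intro e
    have h := Inters29.ker_stalkMap_eq_stk (ιW ≫ w) e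
    rw [Scheme.Hom.stalkMap_comp, CommRingCat.hom_comp, ← RingHom.comap_ker, Inters29.ker_stalkMap_eq_stk] at h
    exact h.symm
  have hcomap : (ιW ≫ w).ker.comap w = ιW.ker := by
    refine ext_stk fun x => ?_
    rw [stk_comap]
    by_cases hx : x ∈ Set.range ιW.base
    · obtain ⟨e, rfl⟩ := hx
      rw [hkey e, Ideal.map_comap_of_surjective _ (ConcreteCategory.bijective_of_isIso (w.stalkMap (ιW e))).2]
    · rw [hrange x hx, hrange' (w x) ?_, Ideal.map_top]
      rintro ⟨e, he⟩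
      exact hx ⟨e, w.isOpenEmbedding.injective he⟩
  haveI : IsLocallyNoetherian W := isLocallyNoetherian_of_isOpenImmersion w
  have hDX : BlowUp.IsEffCartierIdeal ιW.ker → BlowUp.IsEffCartierIdeal (ιW ≫ w).ker := fun hD => by
    refine SDiv28.StalkCartier.isEffCartierIdeal_of_stalks _ fun z hz U hU => ?_
    rw [← stk_eq _ U hU]
    obtain ⟨a, rfl⟩ : z ∈ Set.range (ιW ≫ w).base := by
      have h' : z ∈ closure (Set.range (ιW ≫ w).base) := (((ιW ≫ w).support_ker).le hz)
      rwa [(ιW ≫ w).isClosedEmbedding.isClosed_range.closure_eq] at h'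
    change ∃ g : X.presheaf.stalk (w (ιW a)), g ∈ nonZeroDivisors _ ∧ stk (ιW ≫ w).ker (w (ιW a)) = _
    rw [hkey a]
    obtain ⟨g, hg, hgD⟩ := exists_gen hD (ιW a)
    let σ := (asIso (w.stalkMap (ιW a))).commRingCatIsoToRingEquiv
    refine ⟨σ.symm g, ?_, ?_⟩
    · exact (MulEquivClass.map_nonZeroDivisors σ.symm).le (Submonoid.mem_map_of_mem _ hg)
    · rw [hgD]
      show (Ideal.span {g}).comap σ = _
      rw [← Ideal.map_symm, Ideal.map_span, Set.image_singleton]
      rfl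
  have hDW : BlowUp.IsEffCartierIdeal (ιW ≫ w).ker → BlowUp.IsEffCartierIdeal ιW.ker := fun hD => by
    refine SDiv28.StalkCartier.isEffCartierIdeal_of_stalks _ fun z hz U hU => ?_
    rw [← stk_eq _ U hU, ← hcomap, stk_comap]
    obtain ⟨g, hg, hgD⟩ := exists_gen hD (w z)
    let σ := (asIso (w.stalkMap z)).commRingCatIsoToRingEquiv
    refine ⟨σ g, (MulEquivClass.map_nonZeroDivisors σ).le (Submonoid.mem_map_of_mem _ hg), ?_⟩
    rw [hgD, Ideal.map_span, Set.image_singleton]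
    rfl
  have key : BlowUp.IsEffCartierIdeal (ιW ≫ w).ker → BlowUp.IsEffCartierIdeal ιW.ker →
      ∀ {P : Scheme.{u}} (e : P ⟶ E), Nonempty ((Scheme.Modules.pullback (e ≫ ιW ≫ w)).obj
        (ClSub.idealMod (ιW ≫ w).ker) ≅ (Scheme.Modules.pullback (e ≫ ιW)).obj (ClSub.idealMod ιW.ker)) :=
    fun hD hD' P e => by
      obtain ⟨ψ⟩ := Inters29.nonempty_pullback_idealMod_iso w (ιW ≫ w).ker hD (by rw [hcomap]; exact hD')
      exact ⟨((Scheme.Modules.pullbackCongr (Category.assoc e ιW w)).symm.app _) ≪≫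
        ((Scheme.Modules.pullbackComp (e ≫ ιW) w).symm.app _) ≪≫
        (Scheme.Modules.pullback (e ≫ ιW)).mapIso (ψ ≪≫ eqToIso (congrArg ClSub.idealMod hcomap))⟩
  refine ⟨hcomap, ⟨fun hE => ?_, fun hE => ?_⟩⟩
  · obtain ⟨hD, k, hk, e, ⟨φ⟩⟩ := hE
    obtain ⟨ψ⟩ := key (hDX hD) hD e.hom
    exact ⟨hDX hD, k, hk, e, ⟨ψ ≪≫ φ⟩⟩
  · obtain ⟨hD, k, hk, e, ⟨φ⟩⟩ := hE
    obtain ⟨ψ⟩ := key hD (hDW hD) e.hom
    exact ⟨hDW hD, k, hk, e, ⟨ψ.symm ≪≫ φ⟩⟩

end Groth.Agent.ExcC13
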