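import Groth.Agent.ExcC13.GlueContract
import Groth.Agent.ExcC13.BaseGeom
import Groth.Agent.ExcC13.OpenTransfer
import Groth.Agent.ExcC13.AffSpread
import Groth.Agent.ExcC13.Descend
import Groth.Agent.ExcC13.AffineContract
import Groth.Agent.AbCubeLib.CanonicalSection
import Groth.Agent.VarietyLib.Dual
import Groth.Agent.RelVALib.Projective
import Groth.Agent.AmpleLib.Relative2
import Groth.Agent.MorProj.FinFree
import Groth.Agent.S9706

/-! Contraction of an exceptional curve in a fibre of a quasi-projective morphism. -/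

set_option autoImplicit false
set_option linter.style.haveILetI false
set_option backward.isDefEq.respectTransparency.types false
set_option maxHeartbeats 4000000

universe u

open CategoryTheory CategoryTheory.Limits AlgebraicGeometry TopologicalSpace Opposite
open Groth.Agent.Coherent Groth.Agent.PicLib Groth.Agent.AmpleLib

namespace Groth.Agent.ExcC13

theorem isInvertible_inverse {X : Scheme.{u}} (I : X.IdealSheafData) (hI : BlowUp.IsEffCartierIdeal I)
    {M : X.Modules} (hM : ClSub.IsInverseOf M (ClSub.idealMod I)) : PicF.IsInvertible M := by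
  obtain ⟨t⟩ := hM
  exact PicM.isInvertible_of_tensor (FlatMor12.IdealModGen.isInvertible_idealMod I hI)
    (glocus_isInvertible_of_iso (tensorComm _ _ ≪≫ t).symm isInvertible_structureModule)

theorem exists_inverse {X : Scheme.{u}} (I : X.IdealSheafData) (hI : BlowUp.IsEffCartierIdeal I) :
    ∃ M : X.Modules, PicF.IsInvertible M ∧ ClSub.IsInverseOf M (ClSub.idealMod I) := by
  obtain ⟨M, ⟨t⟩⟩ := VarietyLib.exists_isInverseOf (FlatMor12.IdealModGen.isInvertible_idealMod I hI)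
  exact ⟨M, isInvertible_inverse I hI ⟨tensorComm _ _ ≪≫ t⟩, ⟨tensorComm _ _ ≪≫ t⟩⟩

theorem inverse_mul {X : Scheme.{u}} (I : X.IdealSheafData) (hI : BlowUp.IsEffCartierIdeal I)
    {M : X.Modules} (hM : PicF.IsInvertible M) (h : ClSub.IsInverseOf M (ClSub.idealMod I)) :
    PicM.of hM * PicM.of (FlatMor12.IdealModGen.isInvertible_idealMod I hI) = 1 := by
  rw [PicM.of_mul, PicM.of_eq_one_iff]
  exact h

theorem pull_inverse {X Y : Scheme.{u}} (w : Y ⟶ X) (I : X.IdealSheafData) (J : Y.IdealSheafData)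
    (hI : BlowUp.IsEffCartierIdeal I) (hJ : BlowUp.IsEffCartierIdeal J) (hIJ : I.comap w = J)
    {M : X.Modules} (hM : PicF.IsInvertible M) (h : ClSub.IsInverseOf M (ClSub.idealMod I)) :
    PicM.pull w (PicM.of hM) * PicM.of (FlatMor12.IdealModGen.isInvertible_idealMod J hJ) = 1 := by
  have h1 : PicM.pull w (PicM.of (FlatMor12.IdealModGen.isInvertible_idealMod I hI)) =
      PicM.of (FlatMor12.IdealModGen.isInvertible_idealMod J hJ) := by
    rw [PicM.pull_of, PicM.of_eq_iff]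
    subst hIJ
    exact Inters29.nonempty_pullback_idealMod_iso w I hI hJ
  rw [← h1, ← map_mul, inverse_mul I hI hM h, map_one]

/-- An exceptional curve in a fibre of a quasi-projective morphism contracts to a quasi-projective scheme. -/
theorem exists_contraction_qproj {E X S : Scheme.{u}} [AlgebraicGeometry.IsNoetherian S] (f : X ⟶ S)
    (hf : RelProj.IsQuasiProjective f) (ι : E ⟶ X) [IsClosedImmersion ι] (hE : Models.IsExcCurve ι)
    (s : S) (hs : Set.range ((ι ≫ f).base : E → S) = {s}) :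
    ∃ (X' : Scheme.{u}) (b : X ⟶ X') (g : X' ⟶ S), Models.IsContractionOf ι b ∧ b ≫ g = f ∧
      RelProj.IsQuasiProjective g ∧ Function.Surjective b.base := by
  classical
  haveI := hf.1
  haveI := hf.2.1
  haveI : IsLocallyNoetherian X := LocallyOfFiniteType.isLocallyNoetherian f
  haveI : CompactSpace X := QuasiCompact.compactSpace_of_compactSpace f
  haveI : AlgebraicGeometry.IsNoetherian X := {}
  obtain ⟨Pb, j, q, hj, hq, hjq⟩ := S9706.result f hf
  haveI := hj
  haveI : IsProper q := RelVALib.isProper_of_isProjective hq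
  obtain ⟨-, -, K, hK⟩ := RelVALib.isQuasiProjective_of_isProjective hq
  have hKi := isInvertible_of_isRelAmple q hK
  let L := (Scheme.Modules.pullback j).obj K
  have hLamp : RelAmple.IsRelAmple f L := hjq ▸ isRelAmple_pullback_of_isEmbedding q j j.isOpenEmbedding.isEmbedding hK
  have hLi : PicF.IsInvertible L := PicLoc.isInvertible_pullback j hKi
  obtain ⟨D, hD, gE, hgE, hgEp, hsD, hscl⟩ := exists_affine_nhd_proper f ι hE s hs
  haveI := hgEp
  haveI : IsAffine D.toScheme := hD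
  -- the open
  let W : X.Opens := f ⁻¹ᵁ D
  have hsub : Set.range ι.base ⊆ (W : Set X) := by
    rintro _ ⟨e, rfl⟩
    show f (ι e) ∈ D
    have : (ι ≫ f) e = s := hs.le ⟨e, rfl⟩
    rw [← Scheme.Hom.comp_apply, this]; exact hsD
  let ιW : E ⟶ W.toScheme := IsOpenImmersion.lift W.ι ι (by rw [Scheme.Opens.range_ι]; exact hsub)
  have hιW : ιW ≫ W.ι = ι := IsOpenImmersion.lift_fac _ _ _
  haveI : IsClosedImmersion ιW := by
    haveI : IsClosedImmersion (ιW ≫ W.ι) := by rw [hιW]; infer_instance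
    exact IsClosedImmersion.of_comp ιW W.ι
  obtain ⟨hcomW, hiffW⟩ := isExcCurve_open_iff W.ι ιW ι hιW
  have hEW := hiffW.2 hE
  -- the projective scheme over `D`
  let U₀ : Pb.Opens := q ⁻¹ᵁ D
  let qD : U₀.toScheme ⟶ D.toScheme := q ∣_ D
  let jD : W.toScheme ⟶ U₀.toScheme := IsOpenImmersion.lift U₀.ι (W.ι ≫ j) (by
    rw [Scheme.Opens.range_ι]
    rintro _ ⟨x, rfl⟩
    show q (j (W.ι x)) ∈ D
    rw [← Scheme.Hom.comp_apply j q, hjq]
    exact x.2)
  have hjD : jD ≫ U₀.ι = W.ι ≫ j := IsOpenImmersion.lift_fac _ _ _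
  haveI : IsOpenImmersion jD := by
    haveI : IsOpenImmersion (jD ≫ U₀.ι) := by rw [hjD]; infer_instance
    exact IsOpenImmersion.of_comp jD U₀.ι
  let iP : E ⟶ U₀.toScheme := ιW ≫ jD
  have hiPq : iP ≫ qD = gE := by
    rw [← cancel_mono D.ι, hgE, Category.assoc, morphismRestrict_ι]
    show (ιW ≫ jD) ≫ U₀.ι ≫ q = _
    rw [Category.assoc, reassoc_of% hjD, hjq, reassoc_of% hιW]
  haveI : IsProper (iP ≫ qD) := by rw [hiPq]; infer_instance
  haveI : IsProper iP := IsProper.of_comp iP qD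
  haveI : IsClosedImmersion iP := IsClosedImmersion.of_isPreimmersion _ iP.isClosedMap.isClosed_range
  haveI : IsLocallyNoetherian U₀.toScheme := by
    haveI : IsLocallyNoetherian Pb := LocallyOfFiniteType.isLocallyNoetherian q
    infer_instance
  obtain ⟨hcomP, hiffP⟩ := isExcCurve_open_iff jD ιW iP rfl
  have hEP := hiffP.1 hEW
  haveI : IsNoetherianRing Γ(S, D) := IsLocallyNoetherian.component_noetherian ⟨D, hD⟩
  let qR : U₀.toScheme ⟶ Spec (CommRingCat.of Γ(S, D)) := qD ≫ hD.isoSpec.hom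
  have hKP : CohB1.IsAmple ((Scheme.Modules.pullback U₀.ι).obj K) := ((isRelAmple_iff q).1 hK).2 ⟨D, hD⟩
  obtain ⟨MP, hMPi, hMP⟩ := exists_inverse iP.ker hEP.1
  obtain ⟨P', bP, gP, hbP, hbgP, hgP, n, L'P, hampP, ⟨αP⟩⟩ :=
    exists_contraction_ample Γ(S, D) qR _ hKP iP hEP MP hMP
  haveI := hgP
  haveI := hbP.1
  haveI := hbP.2.1
  obtain ⟨y, hy, hfib, hyim, hreg, hdim, hbl⟩ := Resolve13.range_eq_fibre iP hEP bP hbP
  haveI := hreg
  have happP : ∀ V, IsIso (bP.app V) :=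
    Resolve13.isIso_app_of_appBasis (Resolve13.appBasis_pointBlowUp y hy hdim bP hbl)
  let Vy : P'.Opens := ⟨{y}ᶜ, hy.isOpen_compl⟩
  have hisoP : IsIso (bP ∣_ Vy) := ProjLib.isIso_morphismRestrict hbl _
    (Set.disjoint_left.mpr fun _ h h' => h' ((Scheme.IdealSheafData.coe_support_vanishingIdeal _).le h))
  let O' : P'.Opens := ⟨(bP.base '' (Set.range jD.base)ᶜ)ᶜ,
    (bP.isClosedMap _ jD.isOpenEmbedding.isOpen_range.isClosed_compl).isOpen_compl⟩
  have hO' : bP ⁻¹ᵁ O' = jD.opensRange := by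
    refine Opens.ext (Set.ext fun x => ⟨fun hx => ?_, fun hx => ?_⟩)
    · by_contra h
      exact hx ⟨x, h, rfl⟩
    · rintro ⟨x', hx', he⟩
      have hxy : bP x' ≠ y := fun h => by
        obtain ⟨e, rfl⟩ := hfib.le h
        exact hx' ⟨ιW e, rfl⟩
      haveI := hisoP
      exact hx' (injective_of_isIso_restrict bP Vy he hxy ▸ hx)
  let e₁ : W.toScheme ≅ (bP ⁻¹ᵁ O').toScheme := jD.isoOpensRange ≪≫ U₀.toScheme.isoOfEq hO'.symm
  have he₁ : e₁.hom ≫ (bP ⁻¹ᵁ O').ι = jD := by simp [e₁]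
  let b₁ : W.toScheme ⟶ O'.toScheme := e₁.hom ≫ (bP ∣_ O')
  have hb₁ : b₁ ≫ O'.ι = jD ≫ bP := by
    show (e₁.hom ≫ (bP ∣_ O')) ≫ O'.ι = _
    rw [Category.assoc, morphismRestrict_ι, reassoc_of% he₁]
  have hyO : y ∈ O' := by
    rintro ⟨x', hx', he⟩
    obtain ⟨e, rfl⟩ := hfib.le he
    exact hx' ⟨ιW e, rfl⟩
  have happ₁ : ∀ V, IsIso (b₁.app V) := fun V => by
    show IsIso ((e₁.hom ≫ (bP ∣_ O')).app V)
    rw [Scheme.Hom.comp_app]
    exact IsIso.comp_isIso' (isIso_app_restrict bP O' happP V)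
      (e₁.hom.isIso_app _ (by rw [Scheme.Hom.opensRange_of_isIso]; exact le_top))
  haveI : CompactSpace O'.toScheme := isCompact_iff_compactSpace.1 (NoetherianSpace.isCompact (O' : Set P'))
  haveI : AlgebraicGeometry.IsNoetherian O'.toScheme := {}
  haveI : CompactSpace W.toScheme := isCompact_iff_compactSpace.1 (NoetherianSpace.isCompact (W : Set X))
  haveI : AlgebraicGeometry.IsNoetherian W.toScheme := {}
  haveI : IsProper b₁ := inferInstanceAs (IsProper (e₁.hom ≫ (bP ∣_ O')))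
  have hb₁v : ∀ x, (b₁ x).1 = bP (jD x) := fun x => by
    rw [← Scheme.Hom.comp_apply jD bP, ← hb₁]; rfl
  have hy₁ : IsClosed ({⟨y, hyO⟩} : Set O'.toScheme) := by
    have h := hy.preimage O'.ι.continuous
    rwa [show (O'.ι.base ⁻¹' ({y} : Set P')) = ({⟨y, hyO⟩} : Set O'.toScheme) from
      Set.ext fun z => ⟨fun h => Subtype.ext h, fun h => congrArg Subtype.val h⟩] at h
  have hfib₁ : b₁.base ⁻¹' {⟨y, hyO⟩} = Set.range ιW.base := by
    ext x
    constructor
    · intro hx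
      obtain ⟨e, he⟩ := hfib.le (show bP (jD x) = y from (hb₁v x).symm.trans (congrArg Subtype.val hx))
      exact ⟨e, jD.isOpenEmbedding.injective he⟩
    · rintro ⟨e, rfl⟩
      exact Subtype.ext ((hb₁v _).trans (hfib.ge ⟨e, rfl⟩))
  have hcb₁ : Models.IsContractionOf ιW b₁ := by
    refine isContractionOf_of_iso_off ιW hEW b₁ happ₁ ⟨y, hyO⟩ hy₁ ?_ hfib₁ ?_
    · refine Set.Subset.antisymm ?_ ?_
      · rintro _ ⟨e, rfl⟩
        exact hfib₁.ge ⟨e, rfl⟩
      · rintro _ rfl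
        obtain ⟨x, hx⟩ := hyim
        obtain ⟨e, rfl⟩ := hfib.le hx
        exact ⟨e, hfib₁.ge ⟨e, rfl⟩⟩
    · have h2 : IsIso ((bP ∣_ O') ∣_ (O'.ι ⁻¹ᵁ Vy)) := isIso_restrict_restrict bP O' Vy hisoP
      have hV : (⟨{⟨y, hyO⟩}ᶜ, hy₁.isOpen_compl⟩ : O'.toScheme.Opens) = O'.ι ⁻¹ᵁ Vy :=
        Opens.ext (Set.ext fun z => ⟨fun h hc => h (Subtype.ext hc), fun h hc => h (congrArg Subtype.val hc)⟩)
      rw [hV]
      show IsIso ((e₁.hom ≫ (bP ∣_ O')) ∣_ _)
      rw [morphismRestrict_comp]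
      exact IsIso.comp_isIso' (IsZariskiLocalAtTarget.restrict (P := MorphismProperty.isomorphisms Scheme.{u})
        (inferInstanceAs (IsIso e₁.hom)) _) h2
  -- glue
  obtain ⟨Z, b, a, ha, hb, hpa, hbW, hcov⟩ := exists_glue_contraction ι hE W ιW hιW hEW b₁ hcb₁
  haveI := ha
  haveI := hb.1
  haveI := hb.2.1
  obtain ⟨y', hy', hfib', hyim', hreg', hdim', hbl'⟩ := Resolve13.range_eq_fibre ι hE b hb
  haveI := hreg'
  have happb : ∀ V, IsIso (b.app V) :=
    Resolve13.isIso_app_of_appBasis (Resolve13.appBasis_pointBlowUp y' hy' hdim' b hbl')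
  let Vz : Z.Opens := ⟨{y'}ᶜ, hy'.isOpen_compl⟩
  have hisoz : IsIso (b ∣_ Vz) := ProjLib.isIso_morphismRestrict hbl' _
    (Set.disjoint_left.mpr fun _ h h' => h' ((Scheme.IdealSheafData.coe_support_vanishingIdeal _).le h))
  have hsurj : Function.Surjective b.base := fun z => by
    by_cases hz : z = y'
    · exact hz ▸ hyim'
    · haveI := hisoz
      exact exists_of_isIso_restrict b Vz hz
  haveI : Surjective b := ⟨hsurj⟩
  obtain ⟨g, hbg, -⟩ := Resolve13.existsUnique_factor_contraction ι hE b hb f s hs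
  -- the factor on the open
  let gO : O'.toScheme ⟶ S := O'.ι ≫ gP ≫ hD.isoSpec.inv ≫ D.ι
  have hag : a ≫ g = gO := by
    have hr : Set.range ((ιW ≫ W.ι ≫ f).base : E → S) = {s} := by rw [reassoc_of% hιW]; exact hs
    refine (Resolve13.existsUnique_factor_contraction ιW hEW b₁ hcb₁ (W.ι ≫ f) s hr).unique ?_ ?_
    · rw [← reassoc_of% hbW, hbg]
    · show b₁ ≫ O'.ι ≫ gP ≫ hD.isoSpec.inv ≫ D.ι = _
      rw [reassoc_of% hb₁, reassoc_of% hbgP]
      show jD ≫ (qD ≫ hD.isoSpec.hom) ≫ _ = _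
      rw [Category.assoc, Iso.hom_inv_id_assoc, morphismRestrict_ι, reassoc_of% hjD, hjq]
  have hpre : g ⁻¹ᵁ D = a.opensRange := by
    refine Opens.ext (Set.ext fun z => ⟨fun hz => ?_, fun hz => ?_⟩)
    · obtain ⟨x, rfl⟩ := hsurj z
      have hx : x ∈ W := by
        show f x ∈ D
        rw [← hbg, Scheme.Hom.comp_apply]; exact hz
      exact (show x ∈ b ⁻¹ᵁ a.opensRange from hpa.ge hx)
    · obtain ⟨x, rfl⟩ := hsurj z
      show g (b x) ∈ D
      rw [← Scheme.Hom.comp_apply, hbg]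
      exact hpa.le hz
  haveI : LocallyOfFiniteType g := by
    let U : Bool → Z.Opens := fun t => bif t then a.opensRange else Vz
    have hU : ⨆ t, U t = ⊤ := eq_top_iff.2 fun z _ => by
      by_cases hz : z = y'
      · subst hz
        obtain ⟨x, hx⟩ := hyim'
        obtain ⟨e, rfl⟩ := hfib'.le hx
        exact Opens.mem_iSup.2 ⟨true, hx ▸ (show ι e ∈ b ⁻¹ᵁ a.opensRange from hpa.ge (hsub ⟨e, rfl⟩))⟩
      · exact Opens.mem_iSup.2 ⟨false, hz⟩
    rw [IsZariskiLocalAtSource.iff_of_openCover (P := @LocallyOfFiniteType) (Z.openCoverOfIsOpenCover U hU)]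
    rintro (_ | _)
    · show LocallyOfFiniteType (Vz.ι ≫ g)
      haveI := hisoz
      rw [show Vz.ι ≫ g = inv (b ∣_ Vz) ≫ (b ⁻¹ᵁ Vz).ι ≫ f by
        rw [IsIso.eq_inv_comp, morphismRestrict_ι_assoc, hbg]]
      infer_instance
    · show LocallyOfFiniteType (a.opensRange.ι ≫ g)
      haveI : LocallyOfFiniteType gO := inferInstanceAs (LocallyOfFiniteType (O'.ι ≫ gP ≫ hD.isoSpec.inv ≫ D.ι))
      rw [show a.opensRange.ι ≫ g = a.isoOpensRange.inv ≫ gO by
        rw [← hag, Scheme.Hom.isoOpensRange_inv_comp_assoc]]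
      infer_instance
  -- modules
  obtain ⟨MX, hMXi, hMX⟩ := exists_inverse ι.ker hE.1
  let H := CohB1.tensorMod L (CohB1.tensorPow MX n)
  have hHi : PicF.IsInvertible H := isInvertible_tensorMod hLi (isInvertible_tensorPow hMXi n)
  have hH : PicM.of hHi = PicM.of hLi * PicM.of hMXi ^ n := by
    rw [← PicM.of_tensorPow, PicM.of_mul]
  have hMW : PicM.pull W.ι (PicM.of hMXi) = PicM.pull jD (PicM.of hMPi) :=
    PicM.mul_right_cancel' ((pull_inverse W.ι ι.ker ιW.ker hE.1 hEW.1 hcomW hMXi hMX).trans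
      (pull_inverse jD iP.ker ιW.ker hEP.1 hEW.1 hcomP hMPi hMP).symm)
  have hHW : PicM.pull W.ι (PicM.of hHi) = PicM.pull b₁ (PicM.pull O'.ι (PicM.of hampP.1)) := by
    rw [hH, map_mul, map_pow, hMW, PicM.pull_pull, hb₁, ← PicM.pull_pull, PicM.pull_of bP,
      (PicM.of_eq_iff _ (isInvertible_tensorMod hKP.1 (isInvertible_tensorPow hMPi n))).2 ⟨αP⟩,
      ← PicM.of_mul hKP.1 (isInvertible_tensorPow hMPi n), PicM.of_tensorPow hMPi, map_mul, map_pow]
    congr 1
    show PicM.pull W.ι (PicM.of (PicLoc.isInvertible_pullback j hKi)) =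
      PicM.pull jD (PicM.of (PicLoc.isInvertible_pullback U₀.ι hKi))
    rw [← PicM.pull_of j hKi, ← PicM.pull_of U₀.ι hKi, PicM.pull_pull, PicM.pull_pull, hjD]
  obtain ⟨hinj₁, hdesc₁⟩ := S7325.result ιW hEW b₁ hcb₁
  obtain ⟨hinj, hdesc⟩ := S7325.result ι hE b hb
  have hLO := PicLoc.isInvertible_pullback O'.ι hampP.1
  obtain ⟨L', hL', ⟨α⟩⟩ := (hdesc H hHi).2 (by
    obtain ⟨τ⟩ := (hdesc₁ _ (PicLoc.isInvertible_pullback b₁ hLO)).1 ⟨_, hLO, ⟨Iso.refl _⟩⟩
    have h1 : PicM.pull ι (PicM.of hHi) = 1 := by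
      rw [← PicM.pull_id (PicM.pull ι _), PicM.pull_pull, Category.id_comp, ← hιW, ← PicM.pull_pull, hHW,
        PicM.pull_of, PicM.pull_of, PicM.pull_of, PicM.of_eq_one_iff]
      exact ⟨τ⟩
    rw [PicM.pull_of, PicM.of_eq_one_iff] at h1
    exact h1)
  have hLa : Nonempty ((Scheme.Modules.pullback a).obj L' ≅ (Scheme.Modules.pullback O'.ι).obj L'P) := by
    refine hinj₁ _ _ (PicLoc.isInvertible_pullback a hL') hLO ?_
    refine (PicM.of_eq_iff (PicLoc.isInvertible_pullback b₁ (PicLoc.isInvertible_pullback a hL'))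
      (PicLoc.isInvertible_pullback b₁ hLO)).1 ?_
    rw [← PicM.pull_of b₁ (PicLoc.isInvertible_pullback a hL'), ← PicM.pull_of a hL', ← PicM.pull_of b₁ hLO,
      ← PicM.pull_of O'.ι hampP.1, PicM.pull_pull, ← hbW, ← PicM.pull_pull,
      PicM.pull_of b, (PicM.of_eq_iff _ hHi).2 ⟨α⟩, hHW]
  have hampD : CohB1.IsAmple ((Scheme.Modules.pullback a.opensRange.ι).obj L') := by
    obtain ⟨φ⟩ := hLa
    have h1 : CohB1.IsAmple ((Scheme.Modules.pullback a).obj L') :=
      isAmple_of_iso φ.symm (isAmple_pullback_of_isOpenImmersion O'.ι hampP)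
    have h2 := isAmple_pullback_of_isAffineHom a.isoOpensRange.inv h1
    rw [isAmple_pullback_comp_iff] at h2
    exact isAmple_pullback_congr (Scheme.Hom.isoOpensRange_inv_comp a) h2
  obtain ⟨sX, hsX⟩ := AbCubeLib.exists_section_of_effCartier ι.ker hE.1 hMXi hMX
  have hsX' : (glocus MX sX : Set X) = (Set.range ι.base)ᶜ := by
    rw [hsX, Scheme.Hom.support_ker]
    congr 1
    exact ι.isClosedEmbedding.isClosed_range.closure_eq
  refine ⟨Z, b, g, hb, hbg, ⟨inferInstance, inferInstance, L', ?_⟩, hsurj⟩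
  rw [isRelAmple_iff]
  refine ⟨inferInstance, fun V => ?_⟩
  let U : Z.Opens := g ⁻¹ᵁ V.1
  haveI : CompactSpace U.toScheme := isCompact_iff_compactSpace.1 (NoetherianSpace.isCompact (U : Set Z))
  haveI : AlgebraicGeometry.IsNoetherian U.toScheme := {}
  have hLU := PicLoc.isInvertible_pullback U.ι hL'
  refine isAmple_iff_affGlocus.2 ⟨hLU, inferInstance, fun z => ?_⟩
  by_cases hz : z.1 = y'
  · -- near the point
    have hgy : g y' ∈ D := by
      have : y' ∈ g ⁻¹ᵁ D := by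
        rw [hpre]
        obtain ⟨x, hx⟩ := hyim'
        obtain ⟨e, rfl⟩ := hfib'.le hx
        exact hx ▸ (show ι e ∈ b ⁻¹ᵁ a.opensRange from hpa.ge (hsub ⟨e, rfl⟩))
      exact this
    obtain ⟨r, hrle, hr⟩ := V.2.exists_basicOpen_le (V := D) ⟨g z.1, show g z.1 ∈ D from hz ▸ hgy⟩ z.2
    let R : Γ(U.toScheme, ⊤) := U.topIso.inv (g.app V.1 r)
    have hR : U.ι ''ᵁ U.toScheme.basicOpen R = g ⁻¹ᵁ S.basicOpen r := by
      rw [Scheme.preimage_basicOpen, Scheme.image_basicOpen]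
      simp only [R, Scheme.Opens.topIso_inv, Scheme.Opens.ι_appIso, Iso.refl_inv]
      rw [← Scheme.basicOpen_res_eq Z (g.app V.1 r) (eqToHom (Scheme.Opens.ι_image_top U)).op]
      rfl
    refine affGlocus_of_basicOpen hLU R ?_ ?_
    · have h1 : U.ι z ∈ g ⁻¹ᵁ S.basicOpen r := hr
      rw [← hR] at h1
      obtain ⟨w, hw, he⟩ := h1
      exact (Subtype.ext he : w = z) ▸ hw
    · rw [isAmple_pullback_comp_iff]
      haveI : CompactSpace (U.toScheme.basicOpen R).toScheme :=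
        isCompact_iff_compactSpace.1 (NoetherianSpace.isCompact (U.toScheme.basicOpen R : Set U.toScheme))
      refine isAmple_pullback_of_range_subset _
        ((U.toScheme.basicOpen R).ι ≫ U.ι).isOpenEmbedding.isEmbedding a.opensRange ?_ hampD
      rintro _ ⟨w, rfl⟩
      rw [← hpre]
      have h1 : U.ι w.1 ∈ g ⁻¹ᵁ S.basicOpen r := hR.le ⟨w.1, w.2, rfl⟩
      exact hrle h1
  · -- away from the point
    obtain ⟨x, hx⟩ := hsurj z.1
    let P : X.Opens := b ⁻¹ᵁ U
    have hxP : x ∈ P := by show b x ∈ U; rw [hx]; exact z.2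
    haveI : CompactSpace P.toScheme := isCompact_iff_compactSpace.1 (NoetherianSpace.isCompact (P : Set X))
    have hPf : P ≤ f ⁻¹ᵁ V.1 := fun w hw => by
      show f w ∈ V.1
      rw [← hbg, Scheme.Hom.comp_apply]; exact hw
    have hLP : CohB1.IsAmple ((Scheme.Modules.pullback P.ι).obj L) :=
      isAmple_pullback_opens_mono hPf (NoetherianSpace.isCompact _) (((isRelAmple_iff f).1 hLamp).2 V)
    let sP := pullSec P.ι sX
    have hsP : glocus _ sP = P.ι ⁻¹ᵁ glocus MX sX := glocus_pullSec P.ι hMXi sX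
    have hxE : (⟨x, hxP⟩ : P.toScheme) ∈ P.ι ⁻¹ᵁ glocus MX sX := by
      show x ∈ (glocus MX sX : Set X)
      rw [hsX']
      rintro ⟨e, rfl⟩
      exact hz (hx.symm.trans (hfib'.ge ⟨e, rfl⟩))
    obtain ⟨m, hm, t, hxt, htle, hta⟩ := affGlocus_of_mem hLP hxE
    obtain ⟨u, hu⟩ := exists_sec_tensor_pow hLP.1 (PicLoc.isInvertible_pullback P.ι hMXi) t sP n (hsP ▸ htle)
    let Hv := CohB1.tensorMod ((Scheme.Modules.pullback P.ι).obj L)
      (CohB1.tensorPow ((Scheme.Modules.pullback P.ι).obj MX) n)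
    have hHv : PicF.IsInvertible Hv :=
      isInvertible_tensorMod hLP.1 (isInvertible_tensorPow (PicLoc.isInvertible_pullback P.ι hMXi) n)
    obtain ⟨β⟩ : Nonempty ((Scheme.Modules.pullback (b ∣_ U)).obj ((Scheme.Modules.pullback U.ι).obj L') ≅ Hv) := by
      refine (PicM.of_eq_iff (PicLoc.isInvertible_pullback (b ∣_ U) hLU) hHv).1 ?_
      rw [← PicM.pull_of (b ∣_ U) hLU, ← PicM.pull_of U.ι hL', PicM.pull_pull, morphismRestrict_ι, ← PicM.pull_pull,
        PicM.pull_of b, (PicM.of_eq_iff _ hHi).2 ⟨α⟩, hH, map_mul, map_pow,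
        ← PicM.of_mul hLP.1 (isInvertible_tensorPow (PicLoc.isInvertible_pullback P.ι hMXi) n), PicM.of_tensorPow,
        PicM.pull_of, PicM.pull_of]
    haveI : Surjective (b ∣_ U) := MorphismProperty.of_isPullback (P := @Surjective)
      (isPullback_morphismRestrict b U).flip inferInstance
    have h3 := affGlocus_descend (b ∣_ U) (isIso_app_restrict b U happb) (U.ι ⁻¹ᵁ Vz)
      (isIso_restrict_restrict b U Vz hisoz) hLU β hm u (fun w hw => by
        have h4 := htle (hu.le hw)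
        show (b ∣_ U) w ∈ U.ι ⁻¹ᵁ Vz
        show ((b ∣_ U) ≫ U.ι) w ≠ y'
        rw [morphismRestrict_ι]
        intro he
        have h5 : w.1 ∈ (glocus MX sX : Set X) := h4
        rw [hsX'] at h5
        exact h5 (hfib'.le he)) (hu.symm ▸ hta) (hu.ge hxt)
    have h6 : (b ∣_ U) ⟨x, hxP⟩ = z := Subtype.ext ((morphismRestrict_base_coe b U _).trans hx)
    rwa [h6] at h3

end Groth.Agent.ExcC13
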