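import Groth.Agent.Models7.ExcTransfer
import Groth.Agent.Resolve13.Contraction
import Groth.Agent.SectionLib.FibreDVR
import Groth.Agent.CAlgH3.RegularCore
import Groth.Agent.SerreDual.ProjRegular

/-! Local rings along an exceptional curve of the first kind. -/

set_option autoImplicit false
set_option linter.style.haveILetI false
set_option backward.isDefEq.respectTransparency.types false

universe u

open CategoryTheory CategoryTheory.Limits AlgebraicGeometry TopologicalSpace IsLocalRing

namespace Groth.Agent.ExcC13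

variable {E X : Scheme.{u}}

/-- The ambient scheme is regular along an exceptional curve, of one dimension more than the curve. -/
theorem exists_stalk_param [IsLocallyNoetherian X] (ι : E ⟶ X) [IsClosedImmersion ι] (hE : Models.IsExcCurve ι) (a : E) :
    IsRegularLocalRing (X.presheaf.stalk (ι a)) ∧ IsRegularLocalRing (E.presheaf.stalk a) ∧
      ∃ t : X.presheaf.stalk (ι a), t ≠ 0 ∧ t ∈ maximalIdeal (X.presheaf.stalk (ι a)) ∧
        RingHom.ker (ι.stalkMap a).hom = Ideal.span {t} ∧
        ringKrullDim (X.presheaf.stalk (ι a)) = ringKrullDim (E.presheaf.stalk a) + 1 := by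
  obtain ⟨hD, k, _, e, -⟩ := hE
  have hEreg : IsRegularLocalRing (E.presheaf.stalk a) := by
    have h0 := SerreDual.isRegularLocalRing_stalk_projSpace (n := 1) (k := k) (e.inv a)
    haveI := h0
    exact IsRegularLocalRing.of_ringEquiv (asIso (e.inv.stalkMap a)).commRingCatIsoToRingEquiv
  obtain ⟨U, hU, f, hf, hJ⟩ := hD (ι a)
  obtain ⟨hker, hnzd⟩ := SectionLib.ker_stalkMap_of_ideal_eq ι a U hU f hf hJ
  let t := X.presheaf.germ U.1 (ι a) hU f
  have hsurj : Function.Surjective (ι.stalkMap a).hom := ι.stalkMap_surjective a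
  have htm : t ∈ maximalIdeal (X.presheaf.stalk (ι a)) := by
    refine (IsLocalRing.mem_maximalIdeal _).2 fun hu => ?_
    have h0 : (ι.stalkMap a).hom t = 0 := RingHom.mem_ker.1 (hker ▸ Ideal.mem_span_singleton_self t)
    exact not_isUnit_zero (M₀ := E.presheaf.stalk a) (h0 ▸ hu.map (ι.stalkMap a).hom)
  let eq : (X.presheaf.stalk (ι a) ⧸ Ideal.span {t}) ≃+* E.presheaf.stalk a :=
    (Ideal.quotEquivOfEq hker.symm).trans (RingHom.quotientKerEquivOfSurjective hsurj)
  haveI hq : IsRegularLocalRing (X.presheaf.stalk (ι a) ⧸ Ideal.span {t}) := IsRegularLocalRing.of_ringEquiv eq.symm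
  have hreg : IsSMulRegular (X.presheaf.stalk (ι a)) t :=
    fun x y h => mul_cancel_left_mem_nonZeroDivisors hnzd |>.1 h
  haveI hR := CAlgH3.isRegularLocalRing_of_quotient htm hreg
  refine ⟨hR, hEreg, t, fun h0 => ?_, htm, hker, ?_⟩
  · exact zero_notMem_nonZeroDivisors (show (0 : X.presheaf.stalk (ι a)) ∈ nonZeroDivisors _ from h0 ▸ hnzd)
  · rw [← ringKrullDim_eq_of_ringEquiv eq]
    exact (ringKrullDim_quotient_span_singleton_succ_eq_ringKrullDim hreg htm).symm

/-- The local rings of an exceptional curve have dimension at most one. -/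
theorem stalk_dim_le_one (ι : E ⟶ X) (hE : Models.IsExcCurve ι) (a : E) :
    ringKrullDim (E.presheaf.stalk a) ≤ 1 := by
  obtain ⟨-, k, _, e, -⟩ := hE
  rw [← ringKrullDim_eq_of_ringEquiv (asIso (e.hom.stalkMap (e.inv a))).commRingCatIsoToRingEquiv.symm |>.trans
    (ringKrullDim_eq_of_ringEquiv (E.presheaf.stalkCongr (Inseparable.of_eq (by
      rw [← Scheme.Hom.comp_apply, e.inv_hom_id]; rfl : e.hom (e.inv a) = a))).commRingCatIsoToRingEquiv)]
  refine (CurvesLib24.stalk_dim_le_topologicalKrullDim (e.inv a)).trans ?_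
  simpa using (DimLib.PN.topologicalKrullDim_projSpace 1 k).le

/-- A point of the curve whose local ring has dimension one. -/
theorem exists_point_dim_one (ι : E ⟶ X) (hE : Models.IsExcCurve ι) :
    ∃ a b : E, b ⤳ a ∧ b ≠ a ∧ IsClosed ({a} : Set E) ∧ ringKrullDim (E.presheaf.stalk a) = 1 := by
  obtain ⟨hD, k, _, e, φ⟩ := hE
  obtain ⟨p, q, hpq, hsp, -⟩ := Resolve13.two_points_projLine k
  have h1 : (1 : WithBot ℕ∞) ≤ ringKrullDim (E.presheaf.stalk (e.hom q)) := by
    obtain ⟨P, hP⟩ : e.hom p ∈ Set.range (E.fromSpecStalk (e.hom q)) :=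
      Scheme.range_fromSpecStalk.ge (hsp.map e.hom.continuous)
    have hne : P ≠ closedPoint (E.presheaf.stalk (e.hom q)) := fun h =>
      hpq (e.hom.homeomorph.injective (hP.symm.trans (by rw [h, Scheme.fromSpecStalk_closedPoint]; rfl)))
    let P' : PrimeSpectrum (E.presheaf.stalk (e.hom q)) := P
    have hlt : P' < closedPoint (E.presheaf.stalk (e.hom q)) :=
      lt_of_le_of_ne (IsLocalRing.le_maximalIdeal P'.isPrime.ne_top :
        P'.asIdeal ≤ (closedPoint (E.presheaf.stalk (e.hom q))).asIdeal) hne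
    have := Order.LTSeries.length_le_krullDim ((RelSeries.singleton _ P').snoc _ hlt)
    simpa [ringKrullDim] using this
  refine ⟨e.hom q, e.hom p, hsp.map e.hom.continuous, fun h => hpq (e.hom.homeomorph.injective h), ?_,
    le_antisymm (stalk_dim_le_one ι ⟨hD, k, _, e, φ⟩ _) h1⟩
  have hd : topologicalKrullDim ↥(CohB1.ProjSpace 1 k) ≤ 1 := by
    simpa using (DimLib.PN.topologicalKrullDim_projSpace 1 k).le
  haveI := CurveLib.isIntegral_projSpace k 1
  rcases CurvesLib24.eq_genericPoint_or_isClosed hd q with hq | hq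
  · exact absurd (hsp.antisymm (hq ▸ genericPoint_specializes p)).eq hpq
  · have h := e.hom.homeomorph.isClosedMap _ hq
    rwa [Set.image_singleton] at h

end Groth.Agent.ExcC13
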